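import Groth.Agent.Redsub.H673.ImmLift
import Groth.Agent.Sga3B.Parab.DynExist998
import Groth.Agent.Sga3B.Parab.FibIsoSch
import Groth.Agent.S0351

/-!
# Limits of orbits stay in a (not necessarily closed) subgroup

`i : H ⟶ G` an immersion of groups.  Over a field `H` is closed in `G`, so if the limit
of `λ(t) h λ(t)⁻¹` exists in `G` it belongs to `H` set-theoretically.
-/

set_option autoImplicit false
set_option linter.unusedSectionVars false

universe u

open CategoryTheory MonoidalCategory CartesianMonoidalCategory MonObj GrpObj AlgebraicGeometry Limits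
open scoped LaurentPolynomial Polynomial
open Groth.Agent.Sga3B.Parab Groth.Agent.Sga3B.Parab.Dyn998

namespace Groth.Agent.Redsub.H673.RangeLim

variable {S : Scheme.{u}} {G H : Over S} [GrpObj G] [GrpObj H]
variable (i : H ⟶ G) [IsMonHom i] [IsImmersion i.left]

/-- The base change to a field of an immersion of groups is a closed immersion. -/
lemma isClosedImmersion_field (K : Type u) [Field K] (κ : Spec (CommRingCat.of K) ⟶ S) :
    IsClosedImmersion ((Over.pullback κ).map i).left := by
  have h1 : IsImmersion ((Over.pullback κ).map i).left :=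
    MorphismProperty.of_isPullback (P := @IsImmersion)
      (FibIsoSch.isPullback_map_left κ i) inferInstance
  exact Groth.Agent.S0351.result K _ _ ((Over.pullback κ).map i)

lemma ker_toLin {C : Type u} [CommRing C] (c : Spec (CommRingCat.of C) ⟶ S) :
    (toLin C c).left.ker = ⊥ :=
  ImmLift.ker_SpecMap _ Polynomial.toLaurent_injective

lemma range_subset_of_field (K : Type u) [Field K] (κ : Spec (CommRingCat.of K) ⟶ S)
    (y : gmo K κ ⟶ H) (l : lin K κ ⟶ G) (h : toLin K κ ≫ l = y ≫ i) :
    Set.range l.left ⊆ Set.range i.left := by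
  have := isClosedImmersion_field i K κ
  have hl : l.left ≫ G.hom = Spec.map (CommRingCat.ofHom (algebraMap K K[X])) ≫ κ := Over.w l
  have hy : y.left ≫ H.hom = Spec.map (CommRingCat.ofHom (algebraMap K K[T;T⁻¹])) ≫ κ := Over.w y
  have ht : (toLin K κ).left ≫ Spec.map (CommRingCat.ofHom (algebraMap K K[X])) =
      Spec.map (CommRingCat.ofHom (algebraMap K K[T;T⁻¹])) := by
    change Spec.map _ ≫ Spec.map _ = Spec.map _
    rw [← Spec.map_comp, ← CommRingCat.ofHom_comp]
    congr 2
    exact (Polynomial.toLaurentAlg (R := K)).comp_algebraMap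
  let L : (lin K κ).left ⟶ pullback G.hom κ := pullback.lift l.left _ hl
  let Y : (gmo K κ).left ⟶ pullback H.hom κ := pullback.lift y.left _ hy
  have hsq := FibIsoSch.isPullback_map_left κ i
  have hi2 : ((Over.pullback κ).map i).left ≫ pullback.snd G.hom κ = pullback.snd H.hom κ :=
    pullback.lift_snd _ _ _
  have hY : Y ≫ ((Over.pullback κ).map i).left = (toLin K κ).left ≫ L := by
    apply pullback.hom_ext
    · rw [Category.assoc, ← hsq.w, ← Category.assoc, pullback.lift_fst, Category.assoc,
        pullback.lift_fst, ← Over.comp_left, ← Over.comp_left, h]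
    · rw [Category.assoc, hi2, pullback.lift_snd, Category.assoc, pullback.lift_snd, ht]
  have hk : ((Over.pullback κ).map i).left.ker ≤ L.ker := by
    have h3 : ((toLin K κ).left ≫ L).ker = L.ker := by
      rw [Scheme.Hom.ker_comp, ker_toLin, Scheme.IdealSheafData.map_bot]
    rw [← h3, ← hY]
    exact Scheme.Hom.le_ker_comp _ _
  let M := IsClosedImmersion.lift ((Over.pullback κ).map i).left L hk
  have hM : M ≫ ((Over.pullback κ).map i).left = L := IsClosedImmersion.lift_fac _ _ _
  have hfin : l.left = (M ≫ pullback.fst H.hom κ) ≫ i.left := by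
    rw [Category.assoc, hsq.w, ← Category.assoc, hM, pullback.lift_fst]
  rintro _ ⟨x, rfl⟩
  rw [hfin, Scheme.Hom.comp_apply]
  exact Set.mem_range_self _

variable {C : Type u} [CommRing C] {c : Spec (CommRingCat.of C) ⟶ S}

/-- Every point of the affine line over `Spec C` comes from a rational point of the affine line over
a field. -/
lemma exists_field_pt (x : (lin C c).left) : ∃ (K : Type u) (_ : Field K)
    (κ : Spec (CommRingCat.of K) ⟶ S) (a : aff K κ ⟶ aff C c), x ∈ Set.range (mapL a).left := by
  let x' : PrimeSpectrum C[X] := x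
  let K := x'.asIdeal.ResidueField
  let ρ : C[X] →+* K := algebraMap C[X] K
  let ψ : C →+* K := ρ.comp Polynomial.C
  let a : aff K (Spec.map (CommRingCat.ofHom ψ) ≫ c) ⟶ aff C c :=
    Over.homMk (Spec.map (CommRingCat.ofHom ψ)) rfl
  have ha : rm a = ψ := by
    have h : Spec.map (CommRingCat.ofHom (rm a)) = Spec.map (CommRingCat.ofHom ψ) := (left_eq a).symm
    exact congrArg CommRingCat.Hom.hom (Spec.map_injective h)
  refine ⟨K, inferInstance, _, a, ?_⟩
  let ev : K[X] →+* K := Polynomial.evalRingHom (ρ Polynomial.X)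
  have hev : ev.comp (Polynomial.mapRingHom ψ) = ρ := by
    apply Polynomial.ringHom_ext
    · intro c
      simp [ev, ψ]
    · simp [ev]
  let q : PrimeSpectrum K := ⊥
  refine ⟨(PrimeSpectrum.comap ev q : PrimeSpectrum K[X]), ?_⟩
  change PrimeSpectrum.comap (Polynomial.mapRingHom (rm a)) (PrimeSpectrum.comap ev q) = x'
  rw [ha]
  have h1 : PrimeSpectrum.comap (Polynomial.mapRingHom ψ) (PrimeSpectrum.comap ev q) =
      PrimeSpectrum.comap ρ q := by
    rw [← hev]
    rfl
  rw [h1]
  ext f
  change ρ f ∈ (⊥ : Ideal K) ↔ f ∈ x'.asIdeal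
  rw [Ideal.mem_bot]
  exact Ideal.algebraMap_residueField_eq_zero

/-- **Limits of orbits of points of `H` are points of `H` set-theoretically.** -/
theorem range_subset (y : gmo C c ⟶ H) (l : lin C c ⟶ G) (h : toLin C c ≫ l = y ≫ i) :
    Set.range l.left ⊆ Set.range i.left := by
  rintro _ ⟨x, rfl⟩
  obtain ⟨K, _, κ, a, w, rfl⟩ := exists_field_pt x
  have h1 := range_subset_of_field i K κ (mapG a ≫ y) (mapL a ≫ l) (by
    rw [← Category.assoc, toLin_mapL, Category.assoc, h, Category.assoc])
  apply h1
  rw [← Scheme.Hom.comp_apply, ← Over.comp_left]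
  exact Set.mem_range_self _

/-- The limit factors through `H`. -/
theorem exists_lim (y : gmo C c ⟶ H) (l : lin C c ⟶ G) (h : toLin C c ≫ l = y ≫ i) :
    ∃ l' : lin C c ⟶ H, l' ≫ i = l :=
  ImmLift.exists_lift_over i l (toLin C c) (ker_toLin c) y h.symm (range_subset i y l h)

end Groth.Agent.Redsub.H673.RangeLim
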