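import Groth.Agent.Redsub.H673.Extract
import Groth.Agent.Redsub.H673.RangeLim
import Groth.Agent.Sga3B.Parab.Func
import Groth.Agent.Sga3B.Parab.DynSmooth678
import Groth.Agent.Sga3B.Parab.Kill
import Groth.Agent.Flat2H.FSSmoothHom
import Groth.Agent.Ega43.FPOfComp

/-!
# `H ∩ P_G(λ)` is smooth for a smooth, not necessarily closed, subgroup `H` containing `λ`
-/

set_option autoImplicit false
set_option linter.unusedSectionVars false

universe u

open CategoryTheory MonoidalCategory CartesianMonoidalCategory MonObj GrpObj AlgebraicGeometry Limits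
open scoped LaurentPolynomial Polynomial
open Groth.Agent.Sga3B.Parab Groth.Agent.Sga3B.Parab.Dyn998
open Groth.Agent.Sga3B.Parab.DynExist998 Groth.Agent.Sga3B.Parab.DynCell998
open Groth.Agent.Redsub.H673.Extract

namespace Groth.Agent.Redsub.H673.DynSmooth

section Lift

variable {S : Scheme.{u}} {X : Over S}

/-- Lifting of points of a smooth scheme along square-zero extensions. -/
lemma exists_lift (hX : Smooth X.hom) {D D₀ : Type u} [CommRing D] [CommRing D₀] (φ : D →+* D₀)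
    (hφ : Function.Surjective φ) (hk : RingHom.ker φ ^ 2 = ⊥) {d : Spec (CommRingCat.of D) ⟶ S}
    {d₀ : Spec (CommRingCat.of D₀) ⟶ S} (r : Over.mk d₀ ⟶ Over.mk d)
    (hr : r.left = Spec.map (CommRingCat.ofHom φ)) (x₀ : Over.mk d₀ ⟶ X) :
    ∃ x : Over.mk d ⟶ X, r ≫ x = x₀ := by
  obtain ⟨l, h1, h2⟩ := Flat2H.FSSmooth.exists_lift X.hom
    (Flat2H.FSSmoothHom.affLocFS_of_smooth X.hom) (Or.inl inferInstance) (CommRingCat.ofHom φ)
    hφ hk x₀.left d (by
      rw [← hr, Over.w x₀]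
      exact Over.w r)
  refine ⟨Over.homMk l h2, ?_⟩
  ext1
  rw [Over.comp_left, hr]
  exact h1

end Lift

section Red

variable {C : Type u} [CommRing C] (I : Ideal C)

lemma ker_mk_sq {I : Ideal C} (hI : I ^ 2 = ⊥) : RingHom.ker (Ideal.Quotient.mk I) ^ 2 = ⊥ := by
  rw [Ideal.mk_ker, hI]

lemma ker_mapRingHom_sq {I : Ideal C} (hI : I ^ 2 = ⊥) :
    RingHom.ker (Polynomial.mapRingHom (Ideal.Quotient.mk I)) ^ 2 = ⊥ := by
  rw [Polynomial.ker_mapRingHom, Ideal.mk_ker, ← Ideal.map_pow, hI, Ideal.map_bot]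

end Red

variable {S : Scheme.{u}} {G H P U : Over S} [GrpObj G] [GrpObj H] [GrpObj P] [GrpObj U]
variable {C : Type u} [CommRing C] {c : Spec (CommRingCat.of C) ⟶ S} {I : Ideal C}

lemma surjective_red (hI : I ^ 2 = ⊥) : Function.Surjective (red c I).left := by
  intro x
  have h : Set.range (PrimeSpectrum.comap (Ideal.Quotient.mk I)) = Set.univ := by
    rw [range_comap_of_surjective _ _ Ideal.Quotient.mk_surjective, Ideal.mk_ker]
    rw [Set.eq_univ_iff_forall]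
    intro q a ha
    apply q.2.mem_of_pow_mem 2
    have : a ^ 2 ∈ I ^ 2 := Ideal.pow_mem_pow ha 2
    rw [hI] at this
    rw [this]
    exact Ideal.zero_mem _
  have hx : x ∈ Set.range (PrimeSpectrum.comap (Ideal.Quotient.mk I)) := by rw [h]; trivial
  exact hx

lemma mem_range_comp {X Y Z : Over S} (k : X ⟶ Y) (w : Y ⟶ Z) (x : X.left) :
    (k ≫ w).left x ∈ Set.range w.left := by
  rw [Over.comp_left, Scheme.Hom.comp_apply]
  exact Set.mem_range_self _

/-- A point of `G` which is trivial modulo `I` is in the open cell. -/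
lemma exists_cell (hI : I ^ 2 = ⊥) (p : P ⟶ G) (u : U ⟶ G) [IsMonHom p] [IsMonHom u]
    [IsOpenImmersion ((u ⊗ₘ p) ≫ μ[G]).left] (g : aff C c ⟶ G) (hg : red c I ≫ g = 1) :
    ∃ (v : aff C c ⟶ U) (q : aff C c ⟶ P), (v ≫ u) * (q ≫ p) = g := by
  have hr : Set.range g.left ⊆ Set.range ((u ⊗ₘ p) ≫ μ[G]).left := by
    rintro _ ⟨x, rfl⟩
    obtain ⟨x', rfl⟩ := surjective_red hI x
    rw [← Scheme.Hom.comp_apply, ← Over.comp_left, hg]
    have h1 : lift (1 : aff (C ⧸ I) (redc c I) ⟶ U) (1 : aff (C ⧸ I) (redc c I) ⟶ P) ≫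
        (u ⊗ₘ p) ≫ μ[G] = 1 := by
      rw [Semi.lift_comp_mul, MonObj.one_comp, MonObj.one_comp, _root_.one_mul]
    rw [← h1]
    exact mem_range_comp _ _ _
  let k := IsOpenImmersion.lift ((u ⊗ₘ p) ≫ μ[G]).left g.left hr
  have hk : k ≫ ((u ⊗ₘ p) ≫ μ[G]).left = g.left := IsOpenImmersion.lift_fac _ _ _
  let k' : aff C c ⟶ U ⊗ P := Over.homMk k (by
    rw [← Over.w ((u ⊗ₘ p) ≫ μ[G]), ← Category.assoc, hk, Over.w])
  have hk' : k' ≫ (u ⊗ₘ p) ≫ μ[G] = g := by
    ext1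
    exact hk
  refine ⟨k' ≫ fst _ _, k' ≫ snd _ _, ?_⟩
  rw [← hk', Category.assoc, Category.assoc, ← DynLevi998.comp_mul_tensor]

variable [IsAffineHom G.hom] [Smooth G.hom]
variable (i : H ⟶ G) [IsMonHom i] [IsImmersion i.left] (lam : Red.Gm S ⟶ H) [IsMonHom lam]

/-- The lifting property. -/
theorem exists_lift_inter (hI : I ^ 2 = ⊥) (hH : Smooth H.hom) {p : P ⟶ G}
    (hp : IsDynP (lam ≫ i) p) (h₀ : aff (C ⧸ I) (redc c I) ⟶ H)
    (p₀ : aff (C ⧸ I) (redc c I) ⟶ P) (hc : h₀ ≫ i = p₀ ≫ p) :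
    ∃ (h : aff C c ⟶ H) (q : aff C c ⟶ P), h ≫ i = q ≫ p ∧ red c I ≫ h = h₀ := by
  have hpm := hp.isMonHom
  have hmp := hp.mono
  have hmi : Mono i := by
    have : Mono ((Over.forget S).map i) := inferInstanceAs (Mono i.left)
    exact (Over.forget S).mono_of_mono_map this
  obtain ⟨U, _, u, hu, -⟩ := exists_isDynU (negLam (lam ≫ i))
  have hum := hu.isMonHom
  have hcell : IsOpenImmersion ((u ⊗ₘ p) ≫ μ[G]).left := isOpenImmersion_cell hp hu
  have hPs : Smooth P.hom := hp.smooth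
  -- lift `h₀` and `p₀`
  obtain ⟨h', hh'⟩ := exists_lift hH (Ideal.Quotient.mk I) Ideal.Quotient.mk_surjective
    (ker_mk_sq hI) (red c I) rfl h₀
  obtain ⟨p', hp'⟩ := exists_lift hPs (Ideal.Quotient.mk I) Ideal.Quotient.mk_surjective
    (ker_mk_sq hI) (red c I) rfl p₀
  obtain ⟨v, q, hvq⟩ := exists_cell hI p u ((h' ≫ i) * (p' ≫ p)⁻¹) (by
    rw [MonObj.comp_mul, GrpObj.comp_inv, ← Category.assoc, ← Category.assoc, hh', hp', hc,
      mul_inv_cancel])
  have hv : LimOne (negLam (lam ≫ i)) (v ≫ u) := ptU_iff.1 ((hu.iff_ptU _ _).1 ⟨v, rfl⟩)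
  have hv0 : red c I ≫ v ≫ u = 1 := by
    apply eq_one_of_cell (lam := lam ≫ i) (hv.comp (red c I))
    have h1 : red c I ≫ v ≫ u = ((red c I ≫ q⁻¹) ≫ p) := by
      have h2 : red c I ≫ ((v ≫ u) * (q ≫ p)) = 1 := by
        rw [hvq, MonObj.comp_mul, GrpObj.comp_inv, ← Category.assoc, ← Category.assoc, hh', hp',
          hc, mul_inv_cancel]
      rw [MonObj.comp_mul] at h2
      rw [Category.assoc, GrpObj.inv_comp, GrpObj.comp_inv]
      exact eq_inv_of_mul_eq_one_left h2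
    rw [h1]
    exact ptP_iff.1 ((hp.iff_ptP _ _).1 ⟨_, rfl⟩)
  have hdec : h' ≫ i = (v ≫ u) * ((q * p') ≫ p) := by
    rw [MonObj.mul_comp, ← _root_.mul_assoc, hvq, inv_mul_cancel_right]
  -- the limit of the orbit of `h₀`
  obtain ⟨l₀, hl₀⟩ : LimEx (lam ≫ i) (h₀ ≫ i) := by
    rw [hc]
    exact ptP_iff.1 ((hp.iff_ptP _ _).1 ⟨_, rfl⟩)
  rw [Func.orb_map] at hl₀
  obtain ⟨l₁, rfl⟩ := RangeLim.exists_lim i (orb lam h₀) l₀ hl₀
  have hl₁ : toLin _ _ ≫ l₁ = orb lam h₀ := by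
    rw [← cancel_mono i, Category.assoc, hl₀]
  -- lift it
  obtain ⟨l, hl⟩ := exists_lift hH (Polynomial.mapRingHom (Ideal.Quotient.mk I))
    (Polynomial.map_surjective _ Ideal.Quotient.mk_surjective) (ker_mapRingHom_sq hI)
    (mapL (red c I)) (by
      change Spec.map (CommRingCat.ofHom (Polynomial.mapRingHom (rm (red c I)))) = _
      rw [rm_red]) l₁
  obtain ⟨π, hπ⟩ : LimEx (lam ≫ i) ((q * p') ≫ p) := ptP_iff.1 ((hp.iff_ptP _ _).1 ⟨_, rfl⟩)
  have hx : (orb lam h' * (toLin C c ≫ l)⁻¹) ≫ i =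
      orb (lam ≫ i) (v ≫ u) * (toLin C c ≫ (π * (l ≫ i)⁻¹)) := by
    rw [MonObj.mul_comp, GrpObj.inv_comp, ← Func.orb_map, hdec, orb_mul, MonObj.comp_mul,
      GrpObj.comp_inv, hπ, _root_.mul_assoc, Category.assoc]
  have hy0 : mapL (red c I) ≫ (π * (l ≫ i)⁻¹) = 1 := by
    apply eq_of_toLin
    have h1 : mapG (red c I) ≫ orb (lam ≫ i) (v ≫ u) = 1 := by
      rw [mapG_orb, hv0, orb_one]
    have h2 : mapG (red c I) ≫ (orb lam h' * (toLin C c ≫ l)⁻¹) = 1 := by
      rw [MonObj.comp_mul, GrpObj.comp_inv, mapG_orb, hh', ← Category.assoc, ← toLin_mapL,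
        Category.assoc, hl, hl₁, mul_inv_cancel]
    rw [← Category.assoc, toLin_mapL, Category.assoc, MonObj.comp_one]
    have h3 : mapG (red c I) ≫ (orb lam h' * (toLin C c ≫ l)⁻¹) ≫ i =
        mapG (red c I) ≫ (orb (lam ≫ i) (v ≫ u) * (toLin C c ≫ (π * (l ≫ i)⁻¹))) := by rw [hx]
    rw [← Category.assoc, h2, MonObj.one_comp, MonObj.comp_mul, h1, _root_.one_mul] at h3
    exact h3.symm
  obtain ⟨v', hv'⟩ := extract i (lam ≫ i) hI hv hv0 hy0 _ hx
  have hv'0 : red c I ≫ v' = 1 := by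
    rw [← cancel_mono i, Category.assoc, hv', hv0, MonObj.one_comp]
  refine ⟨v'⁻¹ * h', q * p', ?_, ?_⟩
  · rw [MonObj.mul_comp, GrpObj.inv_comp, hv', hdec, inv_mul_cancel_left]
  · rw [MonObj.comp_mul, GrpObj.comp_inv, hv'0, inv_one, _root_.one_mul, hh']

/-- **`H ∩ P_G(λ)` is smooth.** -/
theorem smooth_inter (hH : Smooth H.hom) {p : P ⟶ G} (hp : IsDynP (lam ≫ i) p) {N : Over S}
    {a : N ⟶ H} {b : N ⟶ P} (hN : IsPullback a b i p) : Smooth N.hom := by
  have hpm := hp.isMonHom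
  have hmp := hp.mono
  have hPs : Smooth P.hom := hp.smooth
  have hpfp : LocallyOfFinitePresentation p.left := by
    have h1 : LocallyOfFinitePresentation (p.left ≫ G.hom) := by
      rw [Over.w]
      infer_instance
    exact Ega43.FPOfComp.locallyOfFinitePresentation_of_comp p.left G.hom
  have hafp : LocallyOfFinitePresentation a.left :=
    MorphismProperty.of_isPullback (P := @LocallyOfFinitePresentation)
      (Kill.isPullback_left hN).flip hpfp
  have hma : Mono a := ⟨fun f g h => hN.hom_ext h (by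
    rw [← cancel_mono p, Category.assoc, Category.assoc, ← hN.w, ← Category.assoc, h,
      Category.assoc])⟩
  rw [Flat2H.FSSmoothHom.smooth_iff]
  constructor
  · rw [← Over.w a]
    infer_instance
  · intro A _ I hI α β w
    let α' : aff (A ⧸ I) (redc β I) ⟶ N := Over.homMk α w.symm
    obtain ⟨h, q, hhq, hh⟩ := exists_lift_inter i lam hI hH hp (α' ≫ a) (α' ≫ b) (by
      rw [Category.assoc, Category.assoc, hN.w])
    let n := hN.lift h q hhq
    refine ⟨n.left, ?_, Over.w n⟩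
    have h1 : red β I ≫ n = α' := by
      rw [← cancel_mono a, Category.assoc, hN.lift_fst, hh]
    exact congrArg (fun f => f.left) h1

end Groth.Agent.Redsub.H673.DynSmooth
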