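import Mathlib.Algebra.Polynomial.Laurent
import Mathlib.RingTheory.Ideal.Maps
import Mathlib.RingTheory.Polynomial.Basic
import Mathlib.RingTheory.Spectrum.Prime.RingHom
import Mathlib.Algebra.Algebra.Subalgebra.Basic
import Mathlib.Tactic.LinearCombination

/-!
# The ring `C + I D` for a square-zero ideal `I` of `C`

A `C`-linear functional on `D` with value `1` at `1` is multiplicative on `C + I D`.
-/

set_option autoImplicit false

universe u

open scoped LaurentPolynomial Polynomial

namespace Groth.Agent.Redsub.H673.SqRing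

section

variable {C D : Type u} [CommRing C] [CommRing D] [Algebra C D] (I : Ideal C)

variable (D) in
/-- The elements of `D` congruent to a constant modulo `I D`. -/
def cB : Subalgebra C D where
  carrier := {d | ∃ c : C, d - algebraMap C D c ∈ I.map (algebraMap C D)}
  mul_mem' := by
    rintro x y ⟨c, hc⟩ ⟨d, hd⟩
    refine ⟨c * d, ?_⟩
    have h : x * y - algebraMap C D (c * d) =
        (x - algebraMap C D c) * y + algebraMap C D c * (y - algebraMap C D d) := by
      rw [map_mul]; ring
    rw [h]
    exact Ideal.add_mem _ (Ideal.mul_mem_right _ _ hc) (Ideal.mul_mem_left _ _ hd)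
  add_mem' := by
    rintro x y ⟨c, hc⟩ ⟨d, hd⟩
    refine ⟨c + d, ?_⟩
    have h : x + y - algebraMap C D (c + d) =
        (x - algebraMap C D c) + (y - algebraMap C D d) := by
      rw [map_add]; ring
    rw [h]
    exact Ideal.add_mem _ hc hd
  algebraMap_mem' c := ⟨c, by rw [sub_self]; exact Ideal.zero_mem _⟩

lemma mem_cB {d : D} : d ∈ cB D I ↔ ∃ c : C, d - algebraMap C D c ∈ I.map (algebraMap C D) :=
  Iff.rfl

lemma lin_mem (θ : D →ₗ[C] C) {k : D} (hk : k ∈ I.map (algebraMap C D)) : θ k ∈ I := by
  have hk' : k ∈ (I • ⊤ : Submodule C D) := by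
    rw [Ideal.smul_top_eq_map]
    exact hk
  induction hk' using Submodule.smul_induction_on' with
  | smul r hr n hn =>
    rw [map_smul, smul_eq_mul]
    exact Ideal.mul_mem_right _ _ hr
  | add x hx y hy h1 h2 =>
    rw [map_add]
    have e : (I • ⊤ : Submodule C D) = (I.map (algebraMap C D)).restrictScalars C :=
      Ideal.smul_top_eq_map I
    exact Ideal.add_mem _ (h1 (by rw [e] at hx; exact hx)) (h2 (by rw [e] at hy; exact hy))

lemma mul_eq_zero_of_mem {I : Ideal C} (hI : I ^ 2 = ⊥) {a b : C} (ha : a ∈ I) (hb : b ∈ I) :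
    a * b = 0 := by
  have : a * b ∈ I ^ 2 := by
    rw [pow_two]
    exact Ideal.mul_mem_mul ha hb
  rw [hI] at this
  exact this

lemma map_sq {I : Ideal C} (hI : I ^ 2 = ⊥) : (I.map (algebraMap C D)) ^ 2 = ⊥ := by
  rw [← Ideal.map_pow, hI, Ideal.map_bot]

variable {I} (hI : I ^ 2 = ⊥) (θ : D →ₗ[C] C) (h1 : θ 1 = 1)

include h1 in
lemma lin_algebraMap (c : C) : θ (algebraMap C D c) = c := by
  rw [Algebra.algebraMap_eq_smul_one, map_smul, h1, smul_eq_mul, mul_one]

/-- The algebra map `C + I D → C` given by a linear functional. -/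
def evB : cB D I →ₐ[C] C :=
  AlgHom.ofLinearMap (θ.comp (cB D I).val.toLinearMap) h1 (by
    rintro ⟨x, c, hc⟩ ⟨y, d, hd⟩
    change θ (x * y) = θ x * θ y
    have hx : x = algebraMap C D c + (x - algebraMap C D c) := by ring
    have hy : y = algebraMap C D d + (y - algebraMap C D d) := by ring
    set k := x - algebraMap C D c with hk
    set l := y - algebraMap C D d with hl
    have h0 : k * l = 0 := mul_eq_zero_of_mem (map_sq (D := D) hI) hc hd
    have h2 : x * y = algebraMap C D (c * d) + c • l + d • k := by
      rw [hx, hy, map_mul, Algebra.smul_def, Algebra.smul_def]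
      linear_combination h0
    have h3 : θ x = c + θ k := by rw [hx, map_add, lin_algebraMap θ h1]
    have h4 : θ y = d + θ l := by rw [hy, map_add, lin_algebraMap θ h1]
    have h5 : θ k * θ l = 0 := mul_eq_zero_of_mem hI (lin_mem I θ hc) (lin_mem I θ hd)
    rw [h2, map_add, map_add, lin_algebraMap θ h1, map_smul, map_smul, h3, h4, smul_eq_mul,
      smul_eq_mul]
    linear_combination -h5)

lemma evB_apply (x : cB D I) : evB hI θ h1 x = θ (x : D) := rfl

end

section Top

variable {A B : Type u} [CommRing A] [CommRing B]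

/-- Ring maps which agree modulo nilpotents induce the same map on spectra. -/
lemma comap_eq_of_nilp (f g : A →+* B) (h : ∀ a, IsNilpotent (f a - g a)) (q : PrimeSpectrum B) :
    PrimeSpectrum.comap f q = PrimeSpectrum.comap g q := by
  ext a
  have h1 : f a - g a ∈ q.asIdeal := by
    obtain ⟨n, hn⟩ := h a
    exact q.2.mem_of_pow_mem n (by rw [hn]; exact Ideal.zero_mem _)
  constructor
  · intro ha
    have : g a = f a - (f a - g a) := by ring
    change g a ∈ q.asIdeal
    rw [this]
    exact Ideal.sub_mem _ ha h1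
  · intro ha
    have : f a = g a + (f a - g a) := by ring
    change f a ∈ q.asIdeal
    rw [this]
    exact Ideal.add_mem _ ha h1

end Top

section Laurent

variable {C : Type u} [CommRing C] (I : Ideal C)

lemma mem_map_of_coeff {f : C[T;T⁻¹]} (h : ∀ n, f.coeff n ∈ I) :
    f ∈ I.map (algebraMap C C[T;T⁻¹]) := by
  have h1 : f = f.coeff.sum fun n c => LaurentPolynomial.C c * LaurentPolynomial.T n := by
    conv_lhs => rw [← AddMonoidAlgebra.sum_coeff_single f]
    exact Finsupp.sum_congr fun n _ => LaurentPolynomial.single_eq_C_mul_T _ _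
  rw [h1]
  refine Submodule.sum_mem _ fun n _ => Ideal.mul_mem_right _ _ ?_
  exact Ideal.mem_map_of_mem _ (h n)

variable (C) in
/-- The sum of the coefficients of degree at most `0`. -/
noncomputable def thNeg : C[T;T⁻¹] →ₗ[C] C where
  toFun f := f.coeff.sum fun n c => if n ≤ 0 then c else 0
  map_add' f g := by
    rw [AddMonoidAlgebra.coeff_add, Finsupp.sum_add_index']
    · intro n; simp
    · intro n a b; split_ifs <;> simp
  map_smul' c f := by
    rw [AddMonoidAlgebra.coeff_smul, Finsupp.sum_smul_index]
    · simp only [RingHom.id_apply, smul_eq_mul, Finsupp.mul_sum, mul_ite, mul_zero]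
    · intro n; simp

lemma thNeg_apply (f : C[T;T⁻¹]) : thNeg C f = f.coeff.sum fun n c => if n ≤ 0 then c else 0 := rfl

lemma thNeg_one : thNeg C 1 = 1 := by
  rw [thNeg_apply, AddMonoidAlgebra.one_def, AddMonoidAlgebra.coeff_single,
    Finsupp.sum_single_index] <;> simp

/-- `thNeg` is the value at `1` on Laurent polynomials without positive coefficients. -/
lemma thNeg_of_neg {f : C[T;T⁻¹]} (h : ∀ n, 0 < n → f.coeff n = 0) :
    thNeg C f = f.coeff.sum fun _ c => c := by
  rw [thNeg_apply]
  refine Finsupp.sum_congr fun n _ => ?_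
  by_cases hn : n ≤ 0
  · rw [if_pos hn]
  · rw [if_neg hn, h n (not_le.1 hn)]

variable (C) in
/-- The constant coefficient. -/
noncomputable def thZero : C[T;T⁻¹] →ₗ[C] C where
  toFun f := f.coeff 0
  map_add' f g := by simp
  map_smul' c f := by simp

lemma thZero_apply (f : C[T;T⁻¹]) : thZero C f = f.coeff 0 := rfl

lemma thZero_one : thZero C 1 = 1 := by
  rw [thZero_apply, AddMonoidAlgebra.one_def, AddMonoidAlgebra.coeff_single]
  simp

lemma thNeg_toLaurent (p : C[X]) : thNeg C (Polynomial.toLaurent p) = p.coeff 0 := by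
  induction p using Polynomial.induction_on' with
  | add p q hp hq => rw [map_add, map_add, hp, hq, Polynomial.coeff_add]
  | monomial n a =>
    rw [Polynomial.toLaurent_C_mul_T, ← LaurentPolynomial.single_eq_C_mul_T, thNeg_apply, AddMonoidAlgebra.coeff_single,
      Finsupp.sum_single_index (by simp)]
    rcases n with _ | n
    · simp
    · rw [if_neg (by omega)]
      simp

lemma thZero_toLaurent (p : C[X]) : thZero C (Polynomial.toLaurent p) = p.coeff 0 := by
  induction p using Polynomial.induction_on' with
  | add p q hp hq => rw [map_add, map_add, hp, hq, Polynomial.coeff_add]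
  | monomial n a =>
    rw [Polynomial.toLaurent_C_mul_T, ← LaurentPolynomial.single_eq_C_mul_T, thZero_apply, AddMonoidAlgebra.coeff_single]
    rcases n with _ | n
    · simp
    · rw [Finsupp.single_eq_of_ne (by omega)]
      simp

end Laurent

end Groth.Agent.Redsub.H673.SqRing
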