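import Groth.Agent.Redsub.H673.ImmLift
import Groth.Agent.Redsub.H673.SqRing
import Groth.Agent.Sga3B.Parab.DynCell998

/-!
# Extraction of the negative part of an orbit in a non-closed subgroup

`G` is an affine `S`-group, `i : H ⟶ G` an immersion of groups, `C` a ring over `S` and `I` an ideal
of `C` of square zero.  If `v ∈ U_G(-λ)(C)` is trivial modulo `I`, `y ∈ G(C[T])` is trivial modulo
`I` and `λ(T) v λ(T)⁻¹ · y ∈ H(C[T;T⁻¹])` then `v ∈ H(C)`.
-/

set_option autoImplicit false
set_option linter.unusedSectionVars false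

universe u

open CategoryTheory MonoidalCategory CartesianMonoidalCategory MonObj GrpObj AlgebraicGeometry Limits
open scoped LaurentPolynomial Polynomial TensorProduct
open WithConv
open Groth.Agent.Books.AffBridge Groth.Agent.Books.DynLim
open Groth.Agent.Books.DynBasic hiding orb orb_mul orb_one
open Groth.Agent.Sga3B.Parab Groth.Agent.Sga3B.Parab.Chart998 Groth.Agent.Sga3B.Parab.AffPts998
open Groth.Agent.Sga3B.Parab.Rep998 Groth.Agent.Sga3B.Parab.Dyn998
open Groth.Agent.Sga3B.Parab.DynExist998 Groth.Agent.Sga3B.Parab.DynCell998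
open Groth.Agent.Redsub.H673.SqRing

namespace Groth.Agent.Redsub.H673.Extract

section Alg

variable {C : Type u} [CommRing C] {A : Type u} [CommRing A] [HopfAlgebra C A]

lemma sum_coeff_conjOrbit (l : A →ₐc[C] C[T;T⁻¹]) (g : A →ₐ[C] C) (a : A) :
    ((Dyn.conjOrbit C A l C g a).coeff.sum fun _ c => c) = g a := by
  have h := Groth.Agent.Books.DynBasic.orb_one l (toConv g)
  rw [Groth.Agent.Books.DynBasic.orb_eq] at h
  have h2 := DFunLike.congr_fun (congrArg WithConv.ofConv h) a
  rw [mapPt_apply, ← conjOrbit_eq, evR_apply] at h2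
  simpa using h2

end Alg

section Red

variable {S : Scheme.{u}} {C : Type u} [CommRing C] (c : Spec (CommRingCat.of C) ⟶ S) (I : Ideal C)

/-- The structure morphism of `Spec C/I`. -/
noncomputable abbrev redc : Spec (CommRingCat.of (C ⧸ I)) ⟶ S :=
  Spec.map (CommRingCat.ofHom (Ideal.Quotient.mk I)) ≫ c

/-- The closed subscheme `Spec C/I` of `Spec C`. -/
noncomputable def red : aff (C ⧸ I) (redc c I) ⟶ aff C c :=
  Over.homMk (Spec.map (CommRingCat.ofHom (Ideal.Quotient.mk I))) rfl

lemma rm_red : rm (red c I) = Ideal.Quotient.mk I := by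
  have h : Spec.map (CommRingCat.ofHom (rm (red c I))) =
    Spec.map (CommRingCat.ofHom (Ideal.Quotient.mk I)) := (left_eq (red c I)).symm
  exact congrArg CommRingCat.Hom.hom (Spec.map_injective h)

end Red

variable {S : Scheme.{u}} {G H : Over S} [GrpObj G] [GrpObj H] [IsAffineHom G.hom]
variable {C : Type u} [CommRing C] {c : Spec (CommRingCat.of C) ⟶ S} {I : Ideal C}

section Cond

variable {A : Type u} [CommRing A] [HopfAlgebra C A] (e : Red.bc c G ≅ SpecOver C A) [IsMonHom e.hom]

/-- A point which is trivial modulo `I`. -/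
lemma cond_aff {g : A →ₐ[C] C} (h : red c I ≫ pt e (hcR (r := c)) g = 1) (a : A) :
    g a - Coalgebra.counit (R := C) a ∈ I := by
  have hc' : Spec.map (CommRingCat.ofHom (algebraMap C (C ⧸ I))) ≫ c = redc c I := rfl
  rw [comp_pt e (hcR (r := c)) hc' (Ideal.Quotient.mkₐ C I) (red c I) rfl, ← pt_one e hc'] at h
  have h2 := DFunLike.congr_fun ((pt_bijective e hc').1 h) a
  rw [← Ideal.Quotient.eq]
  exact h2

/-- A point with values in `C[T]` which is trivial modulo `I`. -/
lemma cond_lin {et : A →ₐ[C] C[X]}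
    (h : mapL (red c I) ≫ pt e (hcP (hcR (r := c))) et = 1) (a : A) (n : ℕ) :
    (et a - Polynomial.C (Coalgebra.counit (R := C) a)).coeff n ∈ I := by
  have hc' : Spec.map (CommRingCat.ofHom (algebraMap C (C ⧸ I)[X])) ≫ c =
      Spec.map (CommRingCat.ofHom (algebraMap (C ⧸ I) (C ⧸ I)[X])) ≫ redc c I := by
    rw [redc, ← Category.assoc, ← Spec.map_comp, ← CommRingCat.ofHom_comp]
  have hx : (mapL (red c I)).left = Spec.map (CommRingCat.ofHom
      (Polynomial.mapAlgHom (Ideal.Quotient.mkₐ C I)).toRingHom) := by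
    change Spec.map (CommRingCat.ofHom (Polynomial.mapRingHom (rm (red c I)))) = _
    rw [rm_red]
    rfl
  rw [comp_pt e (hcP (hcR (r := c))) hc' (Polynomial.mapAlgHom (Ideal.Quotient.mkₐ C I)) _ hx,
    ← pt_one e hc'] at h
  have h2 := DFunLike.congr_fun ((pt_bijective e hc').1 h) a
  have h3 : Polynomial.map (Ideal.Quotient.mk I) (et a) =
      Polynomial.C (Ideal.Quotient.mk I (Coalgebra.counit (R := C) a)) := h2
  rw [← Ideal.Quotient.eq_zero_iff_mem, ← Polynomial.coeff_map, Polynomial.map_sub, h3,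
    Polynomial.map_C, sub_self, Polynomial.coeff_zero]

end Cond

variable (i : H ⟶ G) [IsMonHom i] [IsImmersion i.left] (lam : Red.Gm S ⟶ G) [IsMonHom lam]

/-- **Extraction.** -/
theorem extract (hI : I ^ 2 = ⊥) {v : aff C c ⟶ G} (hv : LimOne (negLam lam) v)
    (hv0 : red c I ≫ v = 1) {y : lin C c ⟶ G} (hy0 : mapL (red c I) ≫ y = 1) (x : gmo C c ⟶ H)
    (hx : x ≫ i = orb lam v * (toLin C c ≫ y)) : ∃ v' : aff C c ⟶ H, v' ≫ i = v := by
  obtain ⟨A, _, _, e, _⟩ := exists_chart (G := G) c
  obtain ⟨g, rfl⟩ := (pt_bijective e (hcR (r := c))).2 v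
  obtain ⟨et, rfl⟩ := (pt_bijective e (hcP (hcR (r := c)))).2 y
  have h1 := cond_aff e hv0
  have h2 := cond_lin e hy0
  -- the negative orbit
  have h3 : (∀ n > 0, ∀ a, g (pr (lamB lam e) n a) = 0) ∧
      ∀ a, g (pr (lamB lam e) 0 a) = Coalgebra.counit (R := C) a := by
    rw [limOne_pt, limIsOne_iff] at hv
    have hneg := lamB_negLam lam e
    refine ⟨fun n hn a => ?_, fun a => ?_⟩
    · have := hv.1 (-n) (by omega) a
      rwa [pr_neg _ _ hneg, neg_neg] at this
    · have := hv.2 a
      rw [pr_neg _ _ hneg, neg_zero] at this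
      exact this
  let D := C[T;T⁻¹]
  let B := cB D I
  let ω : A →ₐ[C] D := Dyn.conjOrbit C A (lamB lam e) C g
  have hωc : ∀ a n, (ω a).coeff n = g (pr (lamB lam e) n a) := fun a n => coeff_conjOrbit _ _ _ _
  have hω : ∀ a, ω a - algebraMap C D (Coalgebra.counit (R := C) a) ∈ I.map (algebraMap C D) := by
    intro a
    apply mem_map_of_coeff
    intro n
    rw [AddMonoidAlgebra.coeff_sub, Finsupp.sub_apply, hωc]
    change _ - (LaurentPolynomial.C (Coalgebra.counit (R := C) a)).coeff n ∈ I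
    rw [LaurentPolynomial.C_apply]
    by_cases hn : n = 0
    · subst hn
      rw [h3.2]
      simp
    · have := h1 (pr (lamB lam e) n a)
      rw [counit_pr, if_neg hn, sub_zero] at this
      rw [if_neg hn, sub_zero]
      exact this
  have hθ : ∀ a, (tl C C).comp et a - algebraMap C D (Coalgebra.counit (R := C) a) ∈
      I.map (algebraMap C D) := by
    intro a
    have h4 : et a - Polynomial.C (Coalgebra.counit (R := C) a) ∈
        I.map (Polynomial.C : C →+* C[X]) := Ideal.mem_map_C_iff.2 fun n => h2 a n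
    have h5 := Ideal.mem_map_of_mem (Polynomial.toLaurent (R := C)) h4
    rw [Ideal.map_map, map_sub, Polynomial.toLaurent_C] at h5
    have h6 : (Polynomial.toLaurent (R := C)).comp Polynomial.C = algebraMap C D := by
      ext1 a
      exact Polynomial.toLaurent_C a
    rw [h6] at h5
    exact h5
  let ωB : A →ₐ[C] B := ω.codRestrict B fun a => ⟨_, hω a⟩
  let θB : A →ₐ[C] B := ((tl C C).comp et).codRestrict B fun a => ⟨_, hθ a⟩
  let ξ : WithConv (A →ₐ[C] B) := toConv ωB * toConv θB
  have hcB : Spec.map (CommRingCat.ofHom (algebraMap C B)) ≫ c =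
      Spec.map (CommRingCat.ofHom (algebraMap C B)) ≫ c := rfl
  -- the inclusion of `B` in `D`
  have hval : Spec.map (CommRingCat.ofHom B.val.toRingHom) ≫
      Spec.map (CommRingCat.ofHom (algebraMap C B)) =
        Spec.map (CommRingCat.ofHom (algebraMap C D)) := by
    rw [← Spec.map_comp, ← CommRingCat.ofHom_comp]
    rfl
  let j : gmo C c ⟶ aff B (Spec.map (CommRingCat.ofHom (algebraMap C B)) ≫ c) :=
    Over.homMk (Spec.map (CommRingCat.ofHom B.val.toRingHom)) (by
      change Spec.map (CommRingCat.ofHom B.val.toRingHom) ≫ Spec.map _ ≫ c = Spec.map _ ≫ c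
      rw [← Category.assoc, hval])
  have hj : j ≫ pt e hcB ξ.ofConv = x ≫ i := by
    rw [comp_pt e hcB (hcL (hcR (r := c))) B.val j rfl, hx, orb_pt lam e (hcR (r := c)),
      toLin_pt e (hcR (r := c))]
    have h4 : B.val.comp ξ.ofConv = (mapPt B.val ξ).ofConv := rfl
    rw [h4, map_mul, pt_mul]
    rfl
  have hjk : j.left.ker = ⊥ := ImmLift.ker_SpecMap _ Subtype.val_injective
  -- topologically
  have hnil : ∀ a, IsNilpotent (ξ.ofConv.toRingHom a -
      (1 : WithConv (A →ₐ[C] B)).ofConv.toRingHom a) := by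
    intro a
    refine ⟨2, ?_⟩
    apply Subtype.val_injective
    have h5 : ∀ a, (mapPt B.val ξ).ofConv a - algebraMap C D (Coalgebra.counit (R := C) a) ∈
        I.map (algebraMap C D) := by
      intro a
      let π : D →ₐ[C] D ⧸ I.map (algebraMap C D) := Ideal.Quotient.mkₐ C _
      have h6 : mapPt π (toConv ω) = 1 := by
        apply WithConv.ofConv_injective
        ext1 a
        exact (Ideal.Quotient.eq (I := I.map (algebraMap C D))).2 (hω a)
      have h7 : mapPt π (toConv ((tl C C).comp et)) = 1 := by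
        apply WithConv.ofConv_injective
        ext1 a
        exact (Ideal.Quotient.eq (I := I.map (algebraMap C D))).2 (hθ a)
      have h8 : mapPt π (mapPt B.val ξ) = 1 := by
        rw [map_mul, map_mul]
        change mapPt π (toConv ω) * mapPt π (toConv ((tl C C).comp et)) = 1
        rw [h6, h7]
        exact _root_.mul_one (M := WithConv (A →ₐ[C] D ⧸ I.map (algebraMap C D))) 1
      have h9 := DFunLike.congr_fun (congrArg WithConv.ofConv h8) a
      exact (Ideal.Quotient.eq (I := I.map (algebraMap C D))).1 h9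
    have h10 := h5 a
    rw [ZeroMemClass.coe_zero, SubmonoidClass.coe_pow, pow_two]
    exact mul_eq_zero_of_mem (map_sq (D := D) hI) h10 h10
  have hr : Set.range (pt e hcB ξ.ofConv).left ⊆ Set.range i.left := by
    rintro _ ⟨q, rfl⟩
    have h4 : (pt e hcB ξ.ofConv).left q =
        (1 : aff B (Spec.map (CommRingCat.ofHom (algebraMap C B)) ≫ c) ⟶ G).left q := by
      rw [← pt_one e hcB, pt_left, pt_left, Scheme.Hom.comp_apply, Scheme.Hom.comp_apply]
      congr 1
      exact comap_eq_of_nilp _ _ hnil q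
    rw [h4, ← MonObj.one_comp (M := H) i, Over.comp_left, Scheme.Hom.comp_apply]
    exact Set.mem_range_self _
  obtain ⟨w, hw⟩ := ImmLift.exists_lift_over i (pt e hcB ξ.ofConv) j hjk x hj.symm hr
  -- the two evaluations
  let ev1 : B →ₐ[C] C := evB hI (thNeg C) thNeg_one
  let ev2 : B →ₐ[C] C := evB hI (thZero C) thZero_one
  have hev : ∀ ev : B →ₐ[C] C, Spec.map (CommRingCat.ofHom ev.toRingHom) ≫
      Spec.map (CommRingCat.ofHom (algebraMap C B)) ≫ c = c := by
    intro ev
    rw [← Category.assoc, ← Spec.map_comp, ← CommRingCat.ofHom_comp]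
    have : ev.toRingHom.comp (algebraMap C B) = RingHom.id C := ev.comp_algebraMap
    rw [this]
    change Spec.map (𝟙 _) ≫ c = c
    rw [Spec.map_id, Category.id_comp]
  let s1 : aff C c ⟶ aff B (Spec.map (CommRingCat.ofHom (algebraMap C B)) ≫ c) :=
    Over.homMk (Spec.map (CommRingCat.ofHom ev1.toRingHom)) (hev ev1)
  let s2 : aff C c ⟶ aff B (Spec.map (CommRingCat.ofHom (algebraMap C B)) ≫ c) :=
    Over.homMk (Spec.map (CommRingCat.ofHom ev2.toRingHom)) (hev ev2)
  refine ⟨(s1 ≫ w) * (s2 ≫ w)⁻¹, ?_⟩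
  rw [MonObj.mul_comp, GrpObj.inv_comp, Category.assoc, Category.assoc, hw,
    comp_pt e hcB (hcR (r := c)) ev1 s1 rfl, comp_pt e hcB (hcR (r := c)) ev2 s2 rfl]
  have k1 : ev1.comp ωB = g := by
    ext1 a
    change thNeg C (ω a) = g a
    rw [thNeg_of_neg (fun n hn => by rw [hωc]; exact h3.1 n hn a)]
    exact sum_coeff_conjOrbit _ _ _
  have k2 : ev2.comp ωB = (1 : WithConv (A →ₐ[C] C)).ofConv := by
    ext1 a
    change (ω a).coeff 0 = _
    rw [hωc, h3.2]
    rfl
  have k3 : ev1.comp θB = ev2.comp θB := by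
    ext1 a
    change thNeg C (Polynomial.toLaurent (et a)) = thZero C (Polynomial.toLaurent (et a))
    rw [thNeg_toLaurent, thZero_toLaurent]
  have k4 : ev1.comp ξ.ofConv = (toConv g * toConv (ev2.comp θB)).ofConv := by
    change (mapPt ev1 (toConv ωB * toConv θB)).ofConv = _
    rw [map_mul, mapPt_toConv, mapPt_toConv, k1, k3]
  have k5 : ev2.comp ξ.ofConv = (toConv (ev2.comp θB)).ofConv := by
    change (mapPt ev2 (toConv ωB * toConv θB)).ofConv = _
    rw [map_mul, mapPt_toConv, mapPt_toConv, k2]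
    congr 1
    exact _root_.one_mul _
  rw [k4, k5, pt_mul, mul_inv_cancel_right]

end Groth.Agent.Redsub.H673.Extract
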