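import Groth.Agent.Sga3B.Parab.PbK2BFin
import Groth.Agent.Sga3B.AlgBc2
import Groth.Prelude.Def_RedSub

/-!
# Solvable subgroups containing a maximal torus, over an algebraically closed field

`H ⊆ G` smooth connected solvable, `T ⊆ H` a maximal torus of the reductive group `G`: there is a
cocharacter `μ` of `T` with `H ⊆ P_G(μ)` and `T = Z_G(μ)`.
-/

set_option autoImplicit false
set_option linter.unusedSectionVars false

universe u

open CategoryTheory MonoidalCategory CartesianMonoidalCategory MonObj GrpObj AlgebraicGeometry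
open Groth.Agent.Books.AffBridge Groth.Agent.Books.AffBridge2
open Groth.Agent.Sga3B.RG Groth.Agent.Sga3B.RG.BrPts
open Groth.Agent.Sga3B Groth.Agent.Sga3B.Parab Groth.Agent.Sga3B.Parab.BorelPts172
open Groth.Agent.Sga3B.Parab.Dyn998 Groth.Agent.Sga3B.Parab.DynExist998

namespace Groth.Agent.Redsub.H673.SolvBor

/-- A subtorus of `H` which is a maximal torus of `G` is a maximal torus of `H`. -/
lemma isMaximalTorus_of_comp {S : Scheme.{u}} {G H T : Over S} [GrpObj G] [GrpObj H] [GrpObj T]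
    (t : T ⟶ H) (i : H ⟶ G) [IsMonHom t] [IsMonHom i] [Mono i]
    (h : Red.IsMaximalTorus (t ≫ i)) : Red.IsMaximalTorus t := by
  have hm := h.2.1
  refine ⟨inferInstance, mono_of_mono t i, h.2.2.1, ?_⟩
  intro s T' _ j _ _ f hT' hf
  refine h.2.2.2 s T' (j ≫ (Over.pullback (Red.geomPt s)).map i) f hT' ?_
  rw [← Category.assoc, hf, Functor.map_comp]

variable {K : Type u} [Field K] [IsAlgClosed K] {G H T : Over (Spec (CommRingCat.of K))}
  [GrpObj G] [GrpObj H] [GrpObj T]

/-- A smooth connected solvable closed subgroup is contained in a Borel subgroup. -/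
theorem exists_borel (hG : Red.IsReductiveOver K G) (i : H ⟶ G) [IsMonHom i]
    (hi : IsClosedImmersion i.left) (hs : Smooth H.hom) (hc : ConnectedSpace H.left)
    (h : Red.IsSolvableGrp H) :
    ∃ (B : Over (Spec (CommRingCat.of K))) (_ : GrpObj B) (b : B ⟶ G), Red.IsBorelOver K b ∧
      ∃ j : H ⟶ B, j ≫ b = i := by
  obtain ⟨A, _, _, e, he, hft, hdom, hred⟩ := BrHc.exists_hopf_of_isReductiveOver G hG
  have hcl := PbK2.isClosedImmersion_comp_iso i e hi
  have h1 : IsCCS (ptsSub (i ≫ e.hom)) := isCCS_ptsSub (i ≫ e.hom) h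
  obtain ⟨B₀, hB₀, hle⟩ := h1.exists_isBorelPt
  obtain ⟨B, _, b, hbm, hb, rfl⟩ := hB₀.exists_scheme
  have hbcl := hb.2.1
  obtain ⟨f, hf⟩ := exists_factor_of_le (i ≫ e.hom) b hle
  have hei : IsMonHom e.symm.hom := inferInstanceAs (IsMonHom e.inv)
  refine ⟨B, inferInstance, b ≫ e.symm.hom, PbK2.isBorelOver_comp_iso b e.symm hb, f, ?_⟩
  rw [Iso.symm_hom, ← Category.assoc, hf, Category.assoc, Iso.hom_inv_id, Category.comp_id]

/-- The cocharacter attached to a solvable subgroup containing a maximal torus. -/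
theorem exists_cochar (hG : Red.IsReductiveOver K G) (i : H ⟶ G) [IsMonHom i]
    (hi : IsClosedImmersion i.left) (hs : Smooth H.hom) (hc : ConnectedSpace H.left)
    (h : Red.IsSolvableGrp H) (t : T ⟶ H) [IsMonHom t] (ht : Red.IsMaximalTorus (t ≫ i)) :
    ∃ mu : Red.Gm (Spec (CommRingCat.of K)) ⟶ T, IsMonHom mu ∧
      IsDynZ (mu ≫ t ≫ i) (t ≫ i) ∧
      ∃ (B : Over (Spec (CommRingCat.of K))) (_ : GrpObj B) (b : B ⟶ G),
        IsDynP (mu ≫ t ≫ i) b ∧ ∃ j : H ⟶ B, j ≫ b = i := by
  obtain ⟨B, _, b, hb, j, hj⟩ := exists_borel hG i hi hs hc h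
  have hbm := hb.1
  have hbcl := hb.2.1
  have hbmono : Mono b := by
    have : Mono ((Over.forget _).map b) := inferInstanceAs (Mono b.left)
    exact (Over.forget _).mono_of_mono_map this
  have hjm : IsMonHom j := by
    have h1 : IsMonHom (j ≫ b) := by rw [hj]; infer_instance
    exact { one_hom := by rw [← cancel_mono b, Category.assoc, hj, IsMonHom.one_hom, IsMonHom.one_hom]
            mul_hom := by
              rw [← cancel_mono b, Category.assoc, hj, Category.assoc, IsMonHom.mul_hom,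
                IsMonHom.mul_hom, ← Category.assoc, MonoidalCategory.tensorHom_comp_tensorHom, hj] }
  have h2 : (t ≫ j) ≫ b = t ≫ i := by rw [Category.assoc, hj]
  have h3 : Red.IsMaximalTorus (t ≫ j) := isMaximalTorus_of_comp (t ≫ j) b (by rw [h2]; exact ht)
  obtain ⟨-, mu, hmu, hP, hZ⟩ := PbK2BFin.dynK2B K G B b hG hb T (t ≫ j) h3
  rw [h2] at hP hZ
  exact ⟨mu, hmu, hZ, B, inferInstance, b, hP, j, hj⟩

end Groth.Agent.Redsub.H673.SolvBor
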