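import Groth.Agent.Redsub.H673.Hyp
import Groth.Agent.Redsub.H673.RangeLim
import Groth.Agent.Redsub.H673.SolvBor
import Groth.Agent.Sga3B.TorConj
import Groth.Agent.Sga3B.TorusEtLoc920
import Groth.Agent.RedSub.H645.ConjEqIff

/-!
# Maximal tori of a connected smooth subgroup are conjugate locally for the smooth topology

`i : H ⟶ G` an immersion, `G` reductive, `H` smooth with geometrically irreducible fibres, `T`, `T'` maximal tori
of `G` contained in `H`.
-/

set_option autoImplicit false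
set_option linter.unusedSectionVars false

universe u

open CategoryTheory MonoidalCategory CartesianMonoidalCategory MonObj GrpObj AlgebraicGeometry
open Groth.Agent.Sga3B Groth.Agent.Sga3B.Parab
open Groth.Agent.Sga3B.TorTransp Groth.Agent.Sga3B.TorConj Groth.Agent.Sga3B.DSPts

namespace Groth.Agent.Redsub.H673.LocConj

variable {S : Scheme.{u}} {G H T T' : Over S} [GrpObj G] [GrpObj H] [GrpObj T] [GrpObj T']

/-- The conclusion: `T` and `T'` are conjugate in `H` after a smooth base change with `s` in its image. -/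
def Loc (t : T ⟶ H) (t' : T' ⟶ H) (s : S) : Prop :=
  ∃ (Z : Over S) (_ : Smooth Z.hom) (_ : s ∈ Set.range Z.hom) (z : Z ⟶ H), _root_.RedSub.ConjEq t t' z

/-- The conclusion can be checked after étale base change. -/
lemma Loc.of_bc {t : T ⟶ H} {t' : T' ⟶ H} {S' : Scheme.{u}} (f : S' ⟶ S) [Etale f] (s' : S')
    (h : Loc ((Over.pullback f).map t) ((Over.pullback f).map t') s') : Loc t t' (f s') := by
  obtain ⟨Z, hZ, ⟨x, hx⟩, z, hz⟩ := h
  refine ⟨(Over.map f).obj Z, ?_, ⟨x, ?_⟩, (DSPts.bcEquiv f Z H).symm z, ?_⟩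
  · exact MorphismProperty.comp_mem @Smooth Z.hom f hZ inferInstance
  · change (Z.hom ≫ f) x = _
    rw [Scheme.Hom.comp_apply, hx]
  · exact (Groth.Agent.RedSub.H645.ConjEqIff.conjEq_bc_iff f z).1 hz

/-- The immersed subgroup with a maximal torus, no solvability assumed. -/
structure Hyp₀ (i : H ⟶ G) : Prop where
  red : Red.IsReductive G
  mon : IsMonHom i
  imm : IsImmersion i.left
  smooth : Smooth H.hom
  irr : GeometricallyIrreducible H.hom

variable {i : H ⟶ G}

namespace Hyp₀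

theorem bc (h : Hyp₀ i) {S' : Scheme.{u}} (f : S' ⟶ S) [Etale f] :
    Hyp₀ ((Over.pullback f).map i) := by
  have hf := Desc.LQF.of_etale f
  obtain ⟨h1, h2, h3, h4, h6⟩ := h
  refine ⟨RedCover147.isReductive_bc f h1, inferInstance, ?_, ?_, ?_⟩
  · exact MorphismProperty.of_isPullback (P := @IsImmersion) (EtHom.isPullback_map f i) inferInstance
  · exact MorphismProperty.pullback_snd (P := @Smooth) _ _ h4
  · exact MorphismProperty.pullback_snd (P := @GeometricallyIrreducible) _ _ h6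

theorem conn (h : Hyp₀ i) (s : S) : ConnectedSpace (Red.geomFibre s H).left := by
  have h1 := h.irr
  have h2 : GeometricallyIrreducible (Red.geomFibre s H).hom :=
    MorphismProperty.pullback_snd (P := @GeometricallyIrreducible) _ _ h1
  have h3 : IrreducibleSpace (Red.geomFibre s H).left := by
    exact GeometricallyIrreducible.irreducibleSpace_of_subsingleton (Red.geomFibre s H).hom
  infer_instance

end Hyp₀

theorem _root_.Groth.Agent.Redsub.H673.Hyp.hyp₀ {t : T ⟶ H} (h : Hyp i t) : Hyp₀ i :=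
  ⟨h.red, h.mon, h.imm, h.smooth, h.irr⟩

variable {M M' : Type} [AddCommGroup M] [AddCommGroup M']

/-- Conjugacy at a geometric point. -/
theorem exists_conj_point (h : Hyp₀ i) (a : Red.DS S M ⟶ H) (b : Red.DS S M' ⟶ H)
    (ha : Red.IsMaximalTorus a) (hb : Red.IsMaximalTorus b) (s : S) :
    ∃ (h : M' ≃+ M) (g₀ : Over.mk (Red.geomPt s) ⟶ H),
      Transp a (Red.DSmap S h.toAddMonoidHom ≫ b) g₀ := by
  let x := Red.geomPt s
  obtain ⟨hA, -, -, -⟩ := h.red.2.2 s
  have hA' : IsAffine (Red.bc x G).left := hA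
  have hi := h.mon
  have hii := h.imm
  have hHs := h.smooth
  have hcl := RangeLim.isClosedImmersion_field i _ x
  have hAH : IsAffine (Red.bc x H).left := by
    have h1 : IsAffineHom ((Over.pullback x).map i).left := inferInstance
    exact isAffine_of_isAffineHom ((Over.pullback x).map i).left
  have hS' : Smooth (Red.bc x H).hom := MorphismProperty.pullback_snd (P := @Smooth) _ _ hHs
  have hC' : ConnectedSpace (Red.bc x H).left := h.conn s
  obtain ⟨c₀, f, hf, hfc⟩ := RG.BrHc2.exists_conj_iso (Red.bc x H) ((Over.pullback x).map a)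
    ((Over.pullback x).map b) (AlgBc.isMaximalTorus_bc x ha) (AlgBc.isMaximalTorus_bc x hb)
  have hcinv : IsMonHom (cI x M).inv := inferInstance
  obtain ⟨h, hh⟩ := exists_addEquiv ((cI x M).inv ≫ f.hom ≫ (cI x M').hom)
  have h1 : (Over.pullback x).map (Red.DSmap S h.toAddMonoidHom) = f.hom := by
    rw [← cancel_mono (cI x M').hom, map_DSmap_cI, ← hh, Iso.hom_inv_id_assoc]
  let ε : Over.mk x ⟶ (Over.map x).obj (𝟙_ _) := Over.homMk (𝟙 _) (by
    change 𝟙 _ ≫ 𝟙 _ ≫ x = x
    rw [Category.id_comp, Category.id_comp])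
  refine ⟨h, ε ≫ (bcEquiv x (𝟙_ _) H).symm c₀, Transp.comp ?_ _⟩
  rw [← transp_bc, Functor.map_comp, h1, hfc]
  intro Y y q
  rw [RG.BrHc.comp_conjHom]
  have h2 : y = toUnit Y := Subsingleton.elim _ _
  rw [h2]

/-- A transporter of one split torus to the other one conjugates them. -/
lemma conjEq_of_transp (t : T ⟶ H) (t' : T' ⟶ H) (e : Grp.mk T ≅ Grp.mk (Red.DS S M))
    (e' : Grp.mk T' ≅ Grp.mk (Red.DS S M')) (h : M' ≃+ M) {Z : Over S} (z : Z ⟶ H)
    (hz : Transp (e.inv.hom.hom ≫ t) (Red.DSmap S h.toAddMonoidHom ≫ e'.inv.hom.hom ≫ t') z) :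
    _root_.RedSub.ConjEq t t' z := by
  have hinv : Red.DSmap S h.symm.toAddMonoidHom ≫ Red.DSmap S h.toAddMonoidHom =
      𝟙 (Red.DS S M') := by
    rw [Trans894.DSmap_comp]
    have : h.symm.toAddMonoidHom.comp h.toAddMonoidHom = AddMonoidHom.id M' := by
      ext m
      exact h.symm_apply_apply m
    rw [this]
    exact Trans894.DSmap_id
  intro X x
  constructor
  · intro w
    refine ⟨w ≫ e.hom.hom.hom ≫ Red.DSmap S h.toAddMonoidHom ≫ e'.inv.hom.hom, ?_⟩
    have h1 := hz X x (w ≫ e.hom.hom.hom)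
    have h2 : (w ≫ e.hom.hom.hom) ≫ e.inv.hom.hom ≫ t = w ≫ t := by
      rw [Category.assoc, ← Category.assoc e.hom.hom.hom, GeomBC147.hom_inv, Category.id_comp]
    rw [h2] at h1
    rw [h1]
    simp only [Category.assoc]
  · intro w
    refine ⟨w ≫ e'.hom.hom.hom ≫ Red.DSmap S h.symm.toAddMonoidHom ≫ e.inv.hom.hom, ?_⟩
    have h1 := hz X x (w ≫ e'.hom.hom.hom ≫ Red.DSmap S h.symm.toAddMonoidHom)
    have h2 : (w ≫ e'.hom.hom.hom ≫ Red.DSmap S h.symm.toAddMonoidHom) ≫
        Red.DSmap S h.toAddMonoidHom ≫ e'.inv.hom.hom ≫ t' = w ≫ t' := by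
      simp only [Category.assoc]
      rw [← Category.assoc (Red.DSmap S h.symm.toAddMonoidHom), hinv, Category.id_comp,
        ← Category.assoc e'.hom.hom.hom, GeomBC147.hom_inv, Category.id_comp]
    rw [h2] at h1
    rw [← h1]
    simp only [Category.assoc]
    group

/-- The split case. -/
theorem loc_of_split (h : Hyp₀ i) (t : T ⟶ H) (t' : T' ⟶ H) [IsMonHom t] [IsMonHom t']
    (ht : Red.IsMaximalTorus (t ≫ i)) (ht' : Red.IsMaximalTorus (t' ≫ i))
    [Module.Free ℤ M] [Module.Finite ℤ M]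
    (e : Grp.mk T ≅ Grp.mk (Red.DS S M)) (e' : Grp.mk T' ≅ Grp.mk (Red.DS S M')) (s : S) :
    Loc t t' s := by
  have hi := h.mon
  have hii := h.imm
  have him : Mono i := by
    have : Mono ((Over.forget S).map i) := inferInstanceAs (Mono i.left)
    exact (Over.forget S).mono_of_mono_map this
  have hHs := h.smooth
  have hGa : IsAffineHom G.hom := h.red.1
  have hsep : IsSeparated H.hom := by
    rw [← Over.w i]
    infer_instance
  have hm := SolvBor.isMaximalTorus_of_comp t i ht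
  have hm' := SolvBor.isMaximalTorus_of_comp t' i ht'
  have ha : Red.IsMaximalTorus (e.inv.hom.hom ≫ t) :=
    AlgBc.isMaximalTorus_of_arrow e (Iso.refl _) (by
      change t ≫ 𝟙 _ = e.hom.hom.hom ≫ e.inv.hom.hom ≫ t
      rw [← Category.assoc, GeomBC147.hom_inv, Category.id_comp, Category.comp_id]) hm
  have hb : Red.IsMaximalTorus (e'.inv.hom.hom ≫ t') :=
    AlgBc.isMaximalTorus_of_arrow e' (Iso.refl _) (by
      change t' ≫ 𝟙 _ = e'.hom.hom.hom ≫ e'.inv.hom.hom ≫ t'
      rw [← Category.assoc, GeomBC147.hom_inv, Category.id_comp, Category.comp_id]) hm'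
  obtain ⟨φ, g₀, hg₀⟩ := exists_conj_point h _ _ ha hb s
  have hφ : IsMonHom (Red.DSmap S φ.toAddMonoidHom) := Trans894.isMonHom_DSmap _
  obtain ⟨Z, z, -, hZ, -, hpt⟩ := Trans894.exists_transporter (Q := Red.DS S M)
    (e.inv.hom.hom ≫ t) (Red.DSmap S φ.toAddMonoidHom ≫ e'.inv.hom.hom ≫ t') (Trans894.isTorus_DS S M)
  obtain ⟨x, hx⟩ := (hpt _ g₀).2 hg₀
  refine ⟨Z, hZ, ?_, z, conjEq_of_transp t t' e e' φ z ((hpt _ z).1 ⟨𝟙 _, Category.id_comp _⟩)⟩
  obtain ⟨y⟩ : Nonempty (Spec (CommRingCat.of (AlgebraicClosure (S.residueField s)))) := inferInstance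
  refine ⟨x.left y, ?_⟩
  have h4 : x.left ≫ Z.hom = Red.geomPt s := Over.w x
  have h5 : Z.hom (x.left y) = Red.geomPt s y :=
    (Scheme.Hom.comp_apply _ _ _).symm.trans congr($h4 y)
  rw [h5, Red.geomPt, Scheme.Hom.comp_apply]
  exact Scheme.fromSpecResidueField_apply _ _

/-- **Maximal tori of `G` contained in `H` are conjugate in `H` locally for the smooth topology.** -/
theorem loc (h : Hyp₀ i) (t : T ⟶ H) (t' : T' ⟶ H) [IsMonHom t] [IsMonHom t']
    (ht : Red.IsMaximalTorus (t ≫ i)) (ht' : Red.IsMaximalTorus (t' ≫ i)) (s : S) :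
    Loc t t' s := by
  obtain ⟨B, _, v, r, hv, ⟨s', rfl⟩, ⟨e⟩⟩ := Groth.Agent.Sga3B.TorusEtLoc920.exists_etale_split T
    ht.2.2.1 s
  apply Loc.of_bc v
  have h₁ := h.bc v
  have ht₁ : Red.IsMaximalTorus ((Over.pullback v).map t ≫ (Over.pullback v).map i) := by
    rw [← Functor.map_comp]
    exact AlgBc.isMaximalTorus_bc v ht
  have ht₁' : Red.IsMaximalTorus ((Over.pullback v).map t' ≫ (Over.pullback v).map i) := by
    rw [← Functor.map_comp]
    exact AlgBc.isMaximalTorus_bc v ht'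
  obtain ⟨B', _, v', r', hv', ⟨s'', rfl⟩, ⟨e'⟩⟩ :=
    Groth.Agent.Sga3B.TorusEtLoc920.exists_etale_split (Red.bc v T') ht₁'.2.2.1 s'
  apply Loc.of_bc v'
  have h₂ := h₁.bc v'
  have ht₂ : Red.IsMaximalTorus ((Over.pullback v').map ((Over.pullback v).map t) ≫
      (Over.pullback v').map ((Over.pullback v).map i)) := by
    rw [← Functor.map_comp]
    exact AlgBc.isMaximalTorus_bc v' ht₁
  have ht₂' : Red.IsMaximalTorus ((Over.pullback v').map ((Over.pullback v).map t') ≫
      (Over.pullback v').map ((Over.pullback v).map i)) := by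
    rw [← Functor.map_comp]
    exact AlgBc.isMaximalTorus_bc v' ht₁'
  obtain ⟨e₂⟩ := TorusAlgClosed.isSplitTorusWith_bc v' (M := Fin r → ℤ) ⟨e⟩
  exact loc_of_split h₂ _ _ ht₂ ht₂' e₂ e' s''

end Groth.Agent.Redsub.H673.LocConj
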