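import Groth.Agent.Redsub.H673.VRad
import Groth.Agent.Redsub.H673.LocConj

/-!
# Conjugacy of maximal tori of a solvable subgroup of type (R) by its unipotent radical
-/

set_option autoImplicit false
set_option linter.unusedSectionVars false

universe u

open CategoryTheory MonoidalCategory CartesianMonoidalCategory MonObj GrpObj AlgebraicGeometry
open Groth.Agent.Sga3B Groth.Agent.Sga3B.Parab
open ConjPt RadExist147 RedCover147

namespace Groth.Agent.Redsub.H673

section Ext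

variable {S : Scheme.{u}}

/-- Equality of morphisms can be checked after base change along a covering. -/
lemma hom_ext_of_isCov {J : Type u} {S' : J → Scheme.{u}} {f : ∀ j, S' j ⟶ S} (hf : EtHom.IsCov f)
    {X Y : Over S} (a b : X ⟶ Y) (h : ∀ j, (Over.pullback (f j)).map a = (Over.pullback (f j)).map b) :
    a = b := by
  have h1 := hf.flat
  let F := Limits.Sigma.desc (fun j => Limits.pullback.fst X.hom (f j))
  have hF1 : Flat F := IsZariskiLocalAtSource.sigmaDesc fun j => inferInstance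
  have hF2 : Surjective F := by
    apply Surjective.sigmaDesc_of_union_range_eq_univ
    rw [Set.eq_univ_iff_forall]
    intro z
    obtain ⟨j, s', hs'⟩ := hf.surj (X.hom z)
    rw [Set.mem_iUnion]
    obtain ⟨w, hw, -⟩ := Scheme.Pullback.exists_preimage_pullback z s' hs'.symm
    exact ⟨j, w, hw⟩
  have : Epi F := Flat.epi_of_flat_of_surjective _
  ext1
  rw [← cancel_epi F]
  apply Limits.Sigma.hom_ext
  intro j
  have ha := (FibIsoSch.isPullback_map_left (f j) a).w
  have hb := (FibIsoSch.isPullback_map_left (f j) b).w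
  rw [← Category.assoc, ← Category.assoc, Limits.Sigma.ι_desc]
  rw [ha, hb, h j]

end Ext

variable {S : Scheme.{u}} {G H T T' U : Over S} [GrpObj G] [GrpObj H] [GrpObj T] [GrpObj T']
  [GrpObj U] {i : H ⟶ G} {t : T ⟶ H} {t' : T' ⟶ H}

/-- Étale local unipotent radicals. -/
theorem exists_stabRad (h : Hyp i t) (s : S) : ∃ (S' : Scheme.{u}) (f : S' ⟶ S) (V : Over S')
    (_ : GrpObj V) (v : V ⟶ Red.bc f H), Etale f ∧ s ∈ Set.range f ∧ RadDesc.StabRad v := by
  obtain ⟨S', f, hf, hs, lam, hg⟩ := exists_good h s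
  obtain ⟨V, _, v, hv⟩ := exists_isV (h.bc f) hg
  exact ⟨S', f, V, inferInstance, v, hf, hs, hv.stabRad (h.bc f) hg⟩

/-- In the good situation a point of `V` normalising `T` is trivial. -/
theorem eq_one_of_conj {lam : Red.Gm S ⟶ T} (h : Hyp i t) (hg : Good i t lam) {X : Over S}
    (g : X ⟶ H) (hV : PtU (lam ≫ t ≫ i) (g ≫ i)) (hc : Conj t t g) : g = 1 := by
  have hi := h.mon
  have ht := h.tmon
  have hl := hg.lmon
  obtain ⟨π, hπ, htπ, h1, h2⟩ := exists_proj h hg
  have hgπ : g ≫ π = 1 := h2 X g hV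
  -- `g` centralizes `T`
  have hcent : ∀ (Y : Over S) (y : Y ⟶ X) (τ : Y ⟶ T), (y ≫ g) * (τ ≫ t) = (τ ≫ t) * (y ≫ g) := by
    intro Y y τ
    obtain ⟨τ', hτ'⟩ := (hc Y y (τ ≫ t)).1 ⟨τ, rfl⟩
    have h3 : τ' = τ := by
      have h4 := congrArg (fun z => z ≫ π) hτ'
      simp only [Category.assoc, htπ, Category.comp_id, MonObj.mul_comp, GrpObj.inv_comp, hgπ,
        MonObj.comp_one, _root_.one_mul, inv_one, _root_.mul_one] at h4
      exact h4
    rw [h3] at hτ'
    exact (eq_mul_inv_iff_mul_eq.1 hτ').symm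
  have hZ : PtZ (lam ≫ t ≫ i) (g ≫ i) := by
    rw [DynExist998.ptZ_iff_centralizes]
    intro Y y τ
    have h3 := congrArg (fun z => z ≫ i) (hcent Y y (τ ≫ lam))
    simpa only [MonObj.mul_comp, Category.assoc] using h3
  obtain ⟨x, hx⟩ := (hg.cent.iff_ptZ _ _).2 hZ
  have hii := h.imm
  have him : Mono i := by
    have : Mono ((Over.forget S).map i) := inferInstanceAs (Mono i.left)
    exact (Over.forget S).mono_of_mono_map this
  have h5 : x ≫ t = g := by rw [← cancel_mono i, Category.assoc, hx]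
  have h6 : x = 1 := by
    rw [← hgπ, ← h5, Category.assoc, htπ, Category.comp_id]
  rw [← h5, h6, MonObj.one_comp]

lemma mem_map_of_mem {uU : U ⟶ H} {S' : Scheme.{u}} (f : S' ⟶ S) {X : Over S} (y : X ⟶ U) :
    Mem ((Over.pullback f).map uU) ((Over.pullback f).map (y ≫ uU)) :=
  ⟨(Over.pullback f).map y, by rw [Functor.map_comp]⟩

lemma conj_map {A B : Over S} [GrpObj A] [GrpObj B] {a : A ⟶ H} {b : B ⟶ H} {X : Over S} {g : X ⟶ H}
    (hc : Conj a b g) {S' : Scheme.{u}} (f : S' ⟶ S) :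
    Conj ((Over.pullback f).map a) ((Over.pullback f).map b) ((Over.pullback f).map g) := by
  rw [LC.conj_bc_iff]
  have h1 : (DSPts.bcEquiv f (Red.bc f X) H).symm ((Over.pullback f).map g) =
      (BcPts.bcEquiv f (Red.bc f X) X).symm (𝟙 _) ≫ g := Good.symm_map f g
  rw [h1]
  exact hc.comp _

/-- Uniqueness. -/
theorem uniq (h : Hyp i t) {uU : U ⟶ H} (hU : Par.IsUnipotentRadical uU)
    {X : Over S} (y y' : X ⟶ U) (hy : Conj t t' (y ≫ uU)) (hy' : Conj t t' (y' ≫ uU)) : y = y' := by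
  have hUm := hU.1
  have hUmono : Mono uU := RadDesc.mono_of_closed hU.2.1
  obtain ⟨J, S', f, he, hcov, hQ⟩ := exists_isEtCov (S := S) (Q := fun S' f =>
    ∃ lam : Red.Gm S' ⟶ Red.bc f T, Good ((Over.pullback f).map i) ((Over.pullback f).map t) lam)
    (fun s => by
      obtain ⟨S', f, hf, hs, lam, hg⟩ := exists_good h s
      exact ⟨S', f, hf, hs, lam, hg⟩)
  have key : (y'⁻¹ * y) ≫ uU = 1 := by
    apply hom_ext_of_isCov hcov.cov
    intro j
    obtain ⟨lam, hg⟩ := hQ j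
    have hej := he j
    obtain ⟨V, _, v, hv⟩ := exists_isV (h.bc (f j)) hg
    have h1 : Mem v ((Over.pullback (f j)).map ((y'⁻¹ * y) ≫ uU)) :=
      (RadDesc.mem_iff_of_rad (exists_stabRad h) hU (f j) (he j) v
        (hv.stabRad (h.bc (f j)) hg) _ _).2 (mem_map_of_mem (f j) _)
    have h2 : Conj t t ((y'⁻¹ * y) ≫ uU) := by
      rw [MonObj.mul_comp, GrpObj.inv_comp]
      exact hy'.inv.mul hy
    have h3 := eq_one_of_conj (h.bc (f j)) hg _ ((hv.iff _ _).1 h1) (conj_map h2 (f j))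
    rw [h3, Functor.map_one]
  have h4 : y'⁻¹ * y = 1 := by
    rw [← cancel_mono uU, key, MonObj.one_comp]
  exact (inv_mul_eq_one.1 h4).symm

/-- Local existence. -/
theorem exists_loc (h : Hyp i t) [IsMonHom t'] (ht' : Red.IsMaximalTorus (t' ≫ i)) {uU : U ⟶ H}
    (hU : Par.IsUnipotentRadical uU) (s : S) :
    ∃ (Z : Scheme.{u}) (f : Z ⟶ S), Flat f ∧ LocallyOfFinitePresentation f ∧ s ∈ Set.range f ∧
      ∃ y : Over.mk f ⟶ U, Conj t t' (y ≫ uU) := by
  obtain ⟨S', f, hf, ⟨s', rfl⟩, lam, hg⟩ := exists_good h s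
  have h₁ := h.bc f
  have ht₁' : Red.IsMaximalTorus ((Over.pullback f).map t' ≫ (Over.pullback f).map i) := by
    rw [← Functor.map_comp]
    exact AlgBc.isMaximalTorus_bc f ht'
  have ht := h.tmon
  obtain ⟨Z, hZ, ⟨x, hx⟩, z, hz⟩ := LocConj.loc h₁.hyp₀ ((Over.pullback f).map t)
    ((Over.pullback f).map t') h₁.max ht₁' s'
  obtain ⟨π, hπ, htπ, h1, h2⟩ := exists_proj h₁ hg
  obtain ⟨V, _, v, hv⟩ := exists_isV h₁ hg
  rw [Groth.Agent.RedSub.H645.ConjEqIff.conjEq_iff] at hz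
  -- the unipotent part
  obtain ⟨w, hw⟩ : ∃ w : Z ⟶ Red.bc f H, w = z * (z ≫ π ≫ (Over.pullback f).map t)⁻¹ := ⟨_, rfl⟩
  have hwc : Conj ((Over.pullback f).map t) ((Over.pullback f).map t') w := by
    rw [hw]
    have h3 : Conj ((Over.pullback f).map t) ((Over.pullback f).map t)
        (z ≫ π ≫ (Over.pullback f).map t)⁻¹ :=
      (conj_of_mem _ ⟨z ≫ π, by rw [Category.assoc]⟩).inv
    exact hz.mul h3
  have hwπ : w ≫ π = 1 := by
    rw [hw, MonObj.mul_comp, GrpObj.inv_comp, Category.assoc, Category.assoc, htπ,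
      Category.comp_id, mul_inv_cancel]
  have hwV : Mem v w := by
    rw [hv.iff]
    have h3 := h1 Z w
    rwa [← Category.assoc w π, hwπ, MonObj.one_comp, inv_one, _root_.one_mul] at h3
  obtain ⟨y, hy⟩ := (RadDesc.mem_iff_of_rad (exists_stabRad h) hU f hf v
    (hv.stabRad h₁ hg) _ _).1 hwV
  refine ⟨Z.left, Z.hom ≫ f, inferInstance, inferInstance, ⟨x, by rw [Scheme.Hom.comp_apply, hx]⟩,
    (BcPts.bcEquiv f Z U).symm y, ?_⟩
  have h4 := (BcPts.bcEquiv_symm_comp f y uU).symm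
  rw [hy] at h4
  rw [LC.conj_bc_iff] at hwc
  exact h4 ▸ hwc

/-- **Conjugacy by a unique section of the unipotent radical.** -/
theorem existsUnique (h : Hyp i t) [IsMonHom t'] (ht' : Red.IsMaximalTorus (t' ≫ i)) {uU : U ⟶ H}
    (hU : Par.IsUnipotentRadical uU) :
    ∃! y : 𝟙_ (Over S) ⟶ U, _root_.RedSub.ConjEq t t' (y ≫ uU) := by
  have hmt : Mono t := by
    have : Mono (t ≫ i) := h.max.2.1
    exact mono_of_mono t i
  have hmt' : Mono t' := by
    have : Mono (t' ≫ i) := ht'.2.1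
    exact mono_of_mono t' i
  choose Z f hf1 hf2 hs y hy using exists_loc (t' := t') h ht' hU
  have hcov : EtHom.IsCov (J := S) f := ⟨hf1, hf2, fun s => ⟨s, hs s⟩⟩
  let F : ∀ T : Over S, (T ⟶ 𝟙_ (Over S) ⊗ U) → Prop := fun T g => Conj t t' ((g ≫ snd _ _) ≫ uU)
  have hF : EtSub.IsLocalPt F := by
    have h1 := IsLocalPt.comp_right (isLocalPt_conj t t') (snd (𝟙_ (Over S)) U ≫ uU)
    refine isLocalPt_of_iff h1 fun X g => ?_
    change Conj t t' _ ↔ Conj t t' _
    rw [Category.assoc]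
  obtain ⟨φ, hφ, hu⟩ := EtHom.exists_hom (X := 𝟙_ (Over S)) (Y := U) hF
    (fun T x y y' h1 h2 => uniq h hU y y'
      (by simpa only [F, lift_snd] using h1) (by simpa only [F, lift_snd] using h2))
    hcov (fun s => ⟨snd _ _ ≫ y s, by
      change Conj t t' _
      rw [lift_snd, Category.assoc]
      exact (hy s).comp _⟩)
  refine ⟨φ, ?_, ?_⟩
  · change _root_.RedSub.ConjEq t t' (φ ≫ uU)
    rw [Groth.Agent.RedSub.H645.ConjEqIff.conjEq_iff]
    simpa only [F, lift_snd] using hφ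
  · intro φ' hφ'
    apply hu
    change _root_.RedSub.ConjEq t t' (φ' ≫ uU) at hφ'
    rw [Groth.Agent.RedSub.H645.ConjEqIff.conjEq_iff] at hφ'
    simpa only [F, lift_snd] using hφ'

end Groth.Agent.Redsub.H673
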