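import Groth.Agent.Redsub.H673.DynSmooth
import Groth.Agent.Sga3B.Parab.NearP

/-!
# `H ⊆ P_G(λ)` on a fibre implies `H ⊆ P_G(λ)` nearby

`i : H ⟶ G` an immersion, `H` smooth with connected geometric fibres, `λ : 𝔾_m ⟶ H`.
-/

set_option autoImplicit false
set_option linter.unusedSectionVars false

universe u

open CategoryTheory MonoidalCategory CartesianMonoidalCategory MonObj GrpObj AlgebraicGeometry Limits
open Groth.Agent.Sga3B.Parab Groth.Agent.Sga3B.Parab.Dyn998
open Groth.Agent.Sga3B.Parab.DynExist998

namespace Groth.Agent.Redsub.H673.NearH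

variable {S : Scheme.{u}} {G H P : Over S} [GrpObj G] [GrpObj H] [GrpObj P]

/-- `P` closed in `G`: `i` factors through `p` over a neighbourhood of `s` if it does so on the geometric
fibre at `s` and `H ×_G P` is smooth. -/
theorem exists_open_factor (i : H ⟶ G) [IsMonHom i] (hH : LocallyOfFiniteType H.hom)
    (hY : ∀ s : S, IsIntegral (Red.geomFibre s H).left)
    (p : P ⟶ G) [IsMonHom p] (hpcl : IsClosedImmersion p.left)
    (hN : ∀ (N : Over S) (a : N ⟶ H) (b : N ⟶ P), IsPullback a b i p → Smooth N.hom)
    (s : S) (j : Red.geomFibre s H ⟶ Red.geomFibre s P)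
    (hj : j ≫ (Over.pullback (Red.geomPt s)).map p = (Over.pullback (Red.geomPt s)).map i) :
    ∃ U : S.Opens, s ∈ U ∧ ∃ k : Red.bc U.ι H ⟶ Red.bc U.ι P,
      k ≫ (Over.pullback U.ι).map p = (Over.pullback U.ι).map i := by
  have hmp : Mono p := by
    have : Mono ((Over.forget S).map p) := inferInstanceAs (Mono p.left)
    exact (Over.forget S).mono_of_mono_map this
  have sq : IsPullback (pullback.fst i p) (pullback.snd i p) i p := IsPullback.of_hasPullback i p
  set a := pullback.fst i p with ha
  set b := pullback.snd i p with hb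
  have hNs : Smooth (pullback i p).hom := hN _ a b sq
  have hacl : IsClosedImmersion a.left :=
    MorphismProperty.of_isPullback (P := @IsClosedImmersion) (Kill.isPullback_left sq).flip hpcl
  let e : 𝟙_ (Over S) ⟶ pullback i p := sq.lift η[H] η[P] (by simp)
  let x := Red.geomPt s
  have hx : x (IsLocalRing.closedPoint _) = s := by
    rw [Scheme.Hom.comp_apply]
    exact Scheme.fromSpecResidueField_apply _ _
  have sqx := sq.map (Over.pullback x)
  have hiso : IsIso ((Over.pullback x).map a) := by
    have hmpx : Mono ((Over.pullback x).map p) := inferInstance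
    have hma : Mono ((Over.pullback x).map a) := ⟨fun f g h => sqx.hom_ext h (by
      rw [← cancel_mono ((Over.pullback x).map p), Category.assoc, Category.assoc, ← sqx.w,
        ← Category.assoc, h, Category.assoc])⟩
    let σ := sqx.lift (𝟙 _) j (by rw [Category.id_comp]; exact hj.symm)
    have h1 : σ ≫ (Over.pullback x).map a = 𝟙 _ := sqx.lift_fst _ _ _
    refine ⟨σ, ?_, h1⟩
    rw [← cancel_mono ((Over.pullback x).map a), Category.assoc, h1, Category.comp_id,
      Category.id_comp]
  obtain ⟨U, hsU, hU⟩ := FibIsoSch.exists_open_isIso a e.left (Over.w e) hY s _ x hx hiso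
  refine ⟨U, hsU, inv ((Over.pullback U.ι).map a) ≫ (Over.pullback U.ι).map b, ?_⟩
  rw [Category.assoc, IsIso.inv_comp_eq, ← Functor.map_comp, ← Functor.map_comp, sq.w]

/-- **`H ⊆ P_G(λ)` on the geometric fibre over `s` implies `H ⊆ P_G(λ)` over a neighbourhood of
`s`**, for `i : H ⟶ G` an immersion, `H` smooth with connected geometric fibres, `λ : 𝔾_m ⟶ H`. -/
theorem exists_open_le_dynP [IsAffineHom G.hom] [Smooth G.hom]
    (i : H ⟶ G) [IsMonHom i] [IsImmersion i.left] (lam : Red.Gm S ⟶ H) [IsMonHom lam]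
    (hH : Smooth H.hom) (hc : ∀ s : S, ConnectedSpace (Red.geomFibre s H).left)
    {p : P ⟶ G} (hp : IsDynP (lam ≫ i) p) (s : S) (j : Red.geomFibre s H ⟶ Red.geomFibre s P)
    (hj : j ≫ (Over.pullback (Red.geomPt s)).map p = (Over.pullback (Red.geomPt s)).map i) :
    ∃ U : S.Opens, s ∈ U ∧ ∃ k : Red.bc U.ι H ⟶ Red.bc U.ι P,
      k ≫ (Over.pullback U.ι).map p = (Over.pullback U.ι).map i := by
  have hpm := hp.isMonHom
  have hpcl := hp.isClosedImmersion
  exact exists_open_factor i inferInstance (fun t => isIntegral_geomFibre hH t (hc t)) p hpcl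
    (fun N a b hN => DynSmooth.smooth_inter i lam hH hp hN) s j hj

end Groth.Agent.Redsub.H673.NearH
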