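import Groth.Agent.Redsub.H673.Hyp
import Groth.Agent.Redsub.H673.NearH
import Groth.Agent.Redsub.H673.SolvBor
import Groth.Agent.Sga3B.Parab.PcP
import Groth.Agent.Sga3B.Parab.BorelEt165
import Groth.Agent.Sga3B.Parab.DynGeom678
import Groth.Agent.Sga3B.Parab.DynIso147
import Groth.Agent.Sga3B.TorusEtLoc920

/-!
# Étale locally `H ⊆ P_G(λ)` and `T = Z_G(λ)`
-/

set_option autoImplicit false
set_option linter.unusedSectionVars false

universe u

open CategoryTheory MonoidalCategory CartesianMonoidalCategory MonObj GrpObj AlgebraicGeometry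
open Groth.Agent.Sga3B Groth.Agent.Sga3B.Parab
open Groth.Agent.Sga3B.Parab.Dyn998 Groth.Agent.Sga3B.Parab.DynExist998
open Groth.Agent.Sga3B.Parab.DynBc998
open GeomBC147 GeomFib147 RedCover147

namespace Groth.Agent.Redsub.H673

/-- `λ` is a cocharacter of `T` with `H ⊆ P_G(λ)` and `T = Z_G(λ)`. -/
structure Good {S : Scheme.{u}} {G H T : Over S} [GrpObj G] [GrpObj H] [GrpObj T] (i : H ⟶ G)
    (t : T ⟶ H) (lam : Red.Gm S ⟶ T) : Prop where
  lmon : IsMonHom lam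
  inP : PtP (lam ≫ t ≫ i) i
  cent : IsDynZ (lam ≫ t ≫ i) (t ≫ i)

namespace Good

variable {S : Scheme.{u}} {G H T : Over S} [GrpObj G] [GrpObj H] [GrpObj T] {i : H ⟶ G}
    {t : T ⟶ H} {lam : Red.Gm S ⟶ T}

lemma bcLam_comp₂ {S' : Scheme.{u}} (f : S' ⟶ S) :
    bcLam (lam ≫ t ≫ i) f = bcLam lam f ≫ (Over.pullback f).map t ≫ (Over.pullback f).map i := by
  rw [bcLam_comp, Functor.map_comp]

lemma symm_map {S' : Scheme.{u}} (f : S' ⟶ S) {A B : Over S} [GrpObj B] (j : A ⟶ B) :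
    (DSPts.bcEquiv f (Red.bc f A) B).symm ((Over.pullback f).map j) =
      (BcPts.bcEquiv f (Red.bc f A) A).symm (𝟙 _) ≫ j := by
  rw [← BcPts.bcEquiv_symm_comp, Category.id_comp]
  rfl

theorem bc (h : Good i t lam) {S' : Scheme.{u}} (f : S' ⟶ S) :
    Good ((Over.pullback f).map i) ((Over.pullback f).map t) (bcLam lam f) where
  lmon := by
    have := h.lmon
    infer_instance
  inP := by
    rw [← bcLam_comp₂, ptP_bc_iff, symm_map]
    exact h.inP.comp _
  cent := by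
    rw [← bcLam_comp₂, ← Functor.map_comp]
    exact h.cent.bc f

theorem of_iso {G' H' T' : Over S} [GrpObj G'] [GrpObj H'] [GrpObj T'] {i' : H' ⟶ G'}
    {t' : T' ⟶ H'} [IsMonHom i'] [IsMonHom t'] (eT : Grp.mk T ≅ Grp.mk T')
    (eH : Grp.mk H ≅ Grp.mk H') (eG : Grp.mk G ≅ Grp.mk G')
    (w₁ : eT.hom.hom.hom ≫ t' = t ≫ eH.hom.hom.hom)
    (w₂ : eH.hom.hom.hom ≫ i' = i ≫ eG.hom.hom.hom) (h : Good i t lam) :
    Good i' t' (lam ≫ eT.hom.hom.hom) := by
  have h1 := h.lmon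
  have hw : eT.hom.hom.hom ≫ t' ≫ i' = (t ≫ i) ≫ eG.hom.hom.hom := by
    rw [← Category.assoc, w₁, Category.assoc, w₂, Category.assoc]
  have hL : (lam ≫ eT.hom.hom.hom) ≫ t' ≫ i' = (lam ≫ t ≫ i) ≫ eG.hom.hom.hom := by
    rw [Category.assoc, hw, Category.assoc, Category.assoc, Category.assoc]
  refine ⟨inferInstance, ?_, ?_⟩
  · rw [hL]
    have h2 := (DynIso147.ptP_map eG.hom.hom.hom h.inP).comp eH.inv.hom.hom
    have h3 : eH.inv.hom.hom ≫ i ≫ eG.hom.hom.hom = i' := by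
      rw [← w₂, ← Category.assoc, GeomBC147.inv_hom, Category.id_comp]
    rwa [h3] at h2
  · rw [hL]
    exact DynIso147.isDynZ_of_iso eT eG hw h.cent

end Good

section Open

variable {S : Scheme.{u}}

/-- Factorisation of points lying over an open subset. -/
lemma exists_factor_of_range {P H G : Over S} (i : H ⟶ G) (p : P ⟶ G) (U : S.Opens)
    (k : Red.bc U.ι H ⟶ Red.bc U.ι P) (hk : k ≫ (Over.pullback U.ι).map p = (Over.pullback U.ι).map i)
    (X : Over S) (hX : Set.range X.hom ⊆ (U : Set S)) (h : X ⟶ H) : ∃ y : X ⟶ P, y ≫ p = h ≫ i := by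
  have hX' : Set.range X.hom ⊆ Set.range U.ι := by
    rw [Scheme.Opens.range_ι]
    exact hX
  let v : X.left ⟶ U := IsOpenImmersion.lift U.ι X.hom hX'
  have hv : v ≫ U.ι = X.hom := IsOpenImmersion.lift_fac _ _ _
  let Y : Over (U : Scheme.{u}) := Over.mk v
  let θ : X ⟶ (Over.map U.ι).obj Y := Over.homMk (𝟙 _) (by
    change 𝟙 _ ≫ v ≫ U.ι = _
    rw [Category.id_comp, hv])
  let θ' : (Over.map U.ι).obj Y ⟶ X := Over.homMk (𝟙 _) (by
    change 𝟙 _ ≫ X.hom = v ≫ U.ι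
    rw [Category.id_comp, hv])
  have h1 : θ ≫ θ' = 𝟙 _ := by
    ext1
    exact Category.id_comp _
  refine ⟨θ ≫ (BcPts.bcEquiv U.ι Y P).symm (BcPts.bcEquiv U.ι Y H (θ' ≫ h) ≫ k), ?_⟩
  rw [Category.assoc, ← BcPts.bcEquiv_symm_comp, Category.assoc, hk, BcPts.bcEquiv_symm_comp,
    Equiv.symm_apply_apply, Category.assoc, ← Category.assoc θ, h1, Category.id_comp]

/-- A morphism which is an isomorphism over `U`: points over `U` lift. -/
lemma exists_lift_of_isIso {N H : Over S} (a : N ⟶ H) (U : S.Opens)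
    (hU : IsIso ((Over.pullback U.ι).map a)) (X : Over S) (hX : Set.range X.hom ⊆ (U : Set S))
    (h : X ⟶ H) : ∃ n : X ⟶ N, n ≫ a = h := by
  obtain ⟨n, hn⟩ := exists_factor_of_range (𝟙 H) a U (inv ((Over.pullback U.ι).map a))
    (by rw [IsIso.inv_hom_id]; exact ((Over.pullback U.ι).map_id H).symm) X hX h
  exact ⟨n, by rw [hn, Category.comp_id]⟩

lemma range_map_subset {U V : S.Opens} (hUV : U ≤ V) (X : Over (U : Scheme.{u})) :
    Set.range ((Over.map U.ι).obj X).hom ⊆ (V : Set S) := by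
  have h1 : Set.range (X.hom ≫ U.ι) ⊆ Set.range U.ι := by
    rintro _ ⟨z, rfl⟩
    rw [Scheme.Hom.comp_apply]
    exact Set.mem_range_self _
  rw [Scheme.Opens.range_ι] at h1
  exact h1.trans hUV

end Open

section Aff

variable {S : Scheme.{u}} {G H T : Over S} [GrpObj G] [GrpObj H] [GrpObj T] {i : H ⟶ G}
    {t : T ⟶ H}

/-- Existence of a good cocharacter near `s` when `T` is split and closed in `G`. -/
theorem exists_open_good (h : Hyp i t) (hcl : IsClosedImmersion (t ≫ i).left) {M : Type}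
    [AddCommGroup M] (e : Grp.mk T ≅ Grp.mk (Red.DS S M)) (s : S) :
    ∃ (U : S.Opens) (_ : s ∈ U) (l : Red.Gm S ⟶ T), IsMonHom l ∧
      Good ((Over.pullback U.ι).map i) ((Over.pullback U.ι).map t) (bcLam l U.ι) := by
  have hi := h.mon
  have hii := h.imm
  have ht := h.tmon
  have hG := h.red
  have hGa : IsAffineHom G.hom := hG.1
  have hGs : Smooth G.hom := hG.2.1
  have hHs : Smooth H.hom := h.smooth
  set x := Red.geomPt s with hxdef
  have hx : x (IsLocalRing.closedPoint _) = s := by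
    rw [hxdef, Scheme.Hom.comp_apply]
    exact Scheme.fromSpecResidueField_apply _ _
  -- the cocharacter over the geometric point
  have hHK : Smooth (Red.geomFibre s H).hom := MorphismProperty.pullback_snd (P := @Smooth) _ _ hHs
  have hmaxK : Red.IsMaximalTorus ((Over.pullback x).map t ≫ (Over.pullback x).map i) := by
    rw [← Functor.map_comp]
    exact AlgBc.isMaximalTorus_bc x h.max
  obtain ⟨mu, hmu, hZ, B, _, b, hP, j, hj⟩ := SolvBor.exists_cochar (hG.2.2 s)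
    ((Over.pullback x).map i) (RangeLim.isClosedImmersion_field i _ x) hHK (h.conn s) (h.solv s)
    ((Over.pullback x).map t) hmaxK
  obtain ⟨y, hy⟩ := DSRigid.exists_eq_DSmap (mu ≫ (Over.pullback x).map e.hom.hom.hom ≫
    (TorusAlgClosed.dsBcIso x M).hom.hom.hom)
  let l : Red.Gm S ⟶ T := Red.DSmap S y ≫ e.inv.hom.hom
  have hym := isMonHom_DSmap (S := S) y
  have hl : IsMonHom l := inferInstanceAs (IsMonHom (Red.DSmap S y ≫ e.inv.hom.hom))
  have h5 : mu = bcLam l x := by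
    rw [bcLam_DSmap, ← hy, Category.assoc, Category.assoc,
      ← Category.assoc (TorusAlgClosed.dsBcIso _ M).hom.hom.hom,
      GeomBC147.hom_inv, Category.id_comp, ← Functor.map_comp, GeomBC147.hom_inv]
    simp
  rw [h5, ← Good.bcLam_comp₂] at hP hZ
  have hlm : IsMonHom (l ≫ t ≫ i) := inferInstance
  -- `H ⊆ P`
  obtain ⟨P, _, p, hp, hpcl⟩ := exists_isDynP (l ≫ t ≫ i)
  obtain ⟨φ, -, hφ⟩ := hP.exists_iso (hp.bc x)
  have hpm := hp.isMonHom
  obtain ⟨U₁, hs₁, k, hk⟩ := NearH.exists_open_le_dynP i (l ≫ t) hHs h.conn (p := p)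
    (by rw [Category.assoc]; exact hp) s (j ≫ φ.hom) (by rw [Category.assoc, hφ, hj])
  -- `T = Z`
  obtain ⟨Z, _, z, hz, hzcl⟩ := exists_isDynZ (l ≫ t ≫ i)
  have hzm := hz.isMonHom
  have hzmono := hz.mono
  have hTM : Red.IsSplitTorusWith M T := ⟨e⟩
  obtain ⟨τ, hτ⟩ := (hz.iff_ptZ T (t ≫ i)).2 (by
    rw [ptZ_iff_centralizes]
    intro X' x' h'
    rw [← Category.assoc h' l, ← MonObj.mul_comp, ← MonObj.mul_comp,
      BorelEt165.split_mul_comm hTM])
  have hτcl : IsClosedImmersion τ.left := by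
    have h3 : IsClosedImmersion (τ.left ≫ z.left) := by
      rw [← Over.comp_left, hτ]
      exact hcl
    exact .of_comp τ.left z.left
  have hTs : Smooth T.hom := TorusAlgClosed.smooth_of_isTorus h.max.2.2.1
  have hZs : Smooth Z.hom := hz.smooth
  have hτx : IsIso ((Over.pullback x).map τ) := by
    rw [← Functor.map_comp] at hZ
    obtain ⟨ψ, -, hψ⟩ := hZ.exists_iso (hz.bc x)
    have h3 : (Over.pullback x).map τ = ψ.hom := by
      rw [← cancel_mono ((Over.pullback x).map z), hψ, ← Functor.map_comp, hτ]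
    rw [h3]
    infer_instance
  obtain ⟨U₂, hs₂, hU₂⟩ := FibIsoSch.exists_open_isIso τ η[T].left (Over.w η[T])
    (fun r => DynGeom678.isIntegral_geomFibre_isDynZ hz r (hG.2.2 r).2.2.1) s _ x hx hτx
  refine ⟨U₁ ⊓ U₂, ⟨hs₁, hs₂⟩, l, hl, inferInstance, ?_, ?_⟩
  · rw [← Good.bcLam_comp₂, ptP_bc_iff, Good.symm_map]
    obtain ⟨y', hy'⟩ := exists_factor_of_range i p U₁ k hk _
      (range_map_subset (U := U₁ ⊓ U₂) (V := U₁) inf_le_left _)
      ((BcPts.bcEquiv (U₁ ⊓ U₂).ι (Red.bc (U₁ ⊓ U₂).ι H) H).symm (𝟙 _))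
    exact (hp.iff_ptP _ _).1 ⟨y', hy'⟩
  · have hmono := h.max.2.1
    rw [← Good.bcLam_comp₂, ← Functor.map_comp]
    refine ⟨inferInstance, inferInstance, fun X g => ?_⟩
    rw [ptZ_bc_iff, exists_bc_iff, ← hz.iff_ptZ]
    constructor
    · rintro ⟨x', hx'⟩
      exact ⟨x' ≫ τ, by rw [Category.assoc, hτ, hx']⟩
    · rintro ⟨z', hz'⟩
      obtain ⟨n, hn⟩ := exists_lift_of_isIso τ U₂ hU₂ _
        (range_map_subset (U := U₁ ⊓ U₂) (V := U₂) inf_le_right _) z'
      exact ⟨n, by rw [← hτ, ← Category.assoc, hn, hz']⟩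

/-- **Étale locally `H ⊆ P_G(λ)` and `T = Z_G(λ)`.** -/
theorem exists_good (h : Hyp i t) (s : S) : ∃ (S' : Scheme.{u}) (f : S' ⟶ S), Etale f ∧
    s ∈ Set.range f ∧ ∃ lam : Red.Gm S' ⟶ Red.bc f T,
      Good ((Over.pullback f).map i) ((Over.pullback f).map t) lam := by
  have hi := h.mon
  have ht := h.tmon
  obtain ⟨B, _, v, r, hv, ⟨s', hs'⟩, ⟨e⟩⟩ := Groth.Agent.Sga3B.TorusEtLoc920.exists_etale_split T
    h.max.2.2.1 s
  have h' := h.bc v
  have hm := h'.max.1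
  have hmm := h'.max.2.1
  have hcl := AdCentre.isClosedImmersion_of_mono h'.red.1
    ((Over.pullback v).map t ≫ (Over.pullback v).map i) (N := Fin r → ℤ) ⟨e⟩
  obtain ⟨U, hsU, l, hl, hgood⟩ := exists_open_good h' hcl e s'
  have hUv : Etale (U.ι ≫ v) := inferInstance
  refine ⟨U, U.ι ≫ v, hUv, ⟨⟨s', hsU⟩, ?_⟩, bcLam l U.ι ≫ (BcIso.bcCompIso U.ι v T).inv.hom.hom, ?_⟩
  · rw [Scheme.Hom.comp_apply]
    exact hs'
  · exact Good.of_iso (BcIso.bcCompIso U.ι v T).symm (BcIso.bcCompIso U.ι v H).symm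
      (BcIso.bcCompIso U.ι v G).symm
      (GeomBC147.symm_w _ _ (GeomFib147.bcCompIso_natural U.ι v t))
      (GeomBC147.symm_w _ _ (GeomFib147.bcCompIso_natural U.ι v i)) hgood

end Aff

end Groth.Agent.Redsub.H673
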