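import Groth.Agent.Sga3B.Parab.GeomFib147
import Groth.Agent.Sga3B.Parab.RedCover147
import Groth.Agent.Sga3B.AlgBc
import Groth.Agent.Sga3C.GrpIrr
import Groth.Prelude.Def_RedSub

/-!
# The set-up for solvable subgroups of type (R) containing a maximal torus
-/

set_option autoImplicit false
set_option linter.unusedSectionVars false

universe u

open CategoryTheory MonoidalCategory CartesianMonoidalCategory MonObj GrpObj AlgebraicGeometry
open Groth.Agent.Sga3B Groth.Agent.Sga3B.Parab
open GeomBC147 GeomFib147 RedCover147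

namespace Groth.Agent.Redsub.H673

theorem isGeom_isSolvableGrp : IsGeom fun _ _ A _ _ _ _ => Red.IsSolvableGrp A where
  iso eA _ _ h := isSolvableGrp_of_iso eA h
  bc φ _ _ _ _ _ _ h := GeomBC147.isSolvableGrp_bc φ h

/-- `T ⊆ H ⊆ G`: `G` reductive, `H` an immersed smooth quasi-compact subgroup with geometrically irreducible
fibres, which are solvable, `T` a maximal torus of `G`. -/
structure Hyp {S : Scheme.{u}} {G H T : Over S} [GrpObj G] [GrpObj H] [GrpObj T] (i : H ⟶ G)
    (t : T ⟶ H) : Prop where
  red : Red.IsReductive G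
  mon : IsMonHom i
  imm : IsImmersion i.left
  smooth : Smooth H.hom
  qc : QuasiCompact H.hom
  irr : GeometricallyIrreducible H.hom
  solv : ∀ s : S, Red.IsSolvableGrp (Red.geomFibre s H)
  tmon : IsMonHom t
  max : Red.IsMaximalTorus (t ≫ i)

namespace Hyp

variable {S : Scheme.{u}} {G H T : Over S} [GrpObj G] [GrpObj H] [GrpObj T] {i : H ⟶ G}
    {t : T ⟶ H}

theorem of_typeR (hG : Red.IsReductive G) (hH : RedSub.IsTypeR i)
    (hsolv : ∀ s : S, Red.IsSolvableGrp (Red.geomFibre s H)) [IsMonHom t]
    (hT : Red.IsMaximalTorus (t ≫ i)) : Hyp i t where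
  red := hG
  mon := hH.1.1
  imm := hH.1.2
  smooth := hH.2.1
  qc := hH.2.2.1
  irr := by
    have h1 : Smooth H.hom := hH.2.1
    let : GrpObj (Over.mk H.hom) := ‹GrpObj H›
    exact Groth.Agent.Sga3C.GrpIrr.geometricallyIrreducible_of_connected_fibres H.hom hH.2.2.2.1
  solv := hsolv
  tmon := inferInstance
  max := hT

theorem bc (h : Hyp i t) {S' : Scheme.{u}} (f : S' ⟶ S) [Etale f] :
    Hyp ((Over.pullback f).map i) ((Over.pullback f).map t) := by
  have hf := Desc.LQF.of_etale f
  obtain ⟨h1, h2, h3, h4, h5, h6, h7, h8, h9⟩ := h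
  refine ⟨RedCover147.isReductive_bc f h1, inferInstance, ?_, ?_, ?_, ?_, ?_, inferInstance, ?_⟩
  · exact MorphismProperty.of_isPullback (P := @IsImmersion) (EtHom.isPullback_map f i) inferInstance
  · exact MorphismProperty.pullback_snd (P := @Smooth) _ _ h4
  · exact MorphismProperty.pullback_snd (P := @QuasiCompact) _ _ h5
  · exact MorphismProperty.pullback_snd (P := @GeometricallyIrreducible) _ _ h6
  · intro s'
    exact (isGeom_isSolvableGrp.fibre_iff f s' (𝟙 H)).2 (h7 (f s'))
  · rw [← Functor.map_comp]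
    exact AlgBc.isMaximalTorus_bc f h9

theorem conn (h : Hyp i t) (s : S) : ConnectedSpace (Red.geomFibre s H).left := by
  have h1 := h.irr
  have h2 : GeometricallyIrreducible (Red.geomFibre s H).hom :=
    MorphismProperty.pullback_snd (P := @GeometricallyIrreducible) _ _ h1
  have h3 : IrreducibleSpace (Red.geomFibre s H).left := by
    exact GeometricallyIrreducible.irreducibleSpace_of_subsingleton (Red.geomFibre s H).hom
  infer_instance

end Hyp

end Groth.Agent.Redsub.H673
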