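import Mathlib.AlgebraicGeometry.Morphisms.Immersion
import Mathlib.AlgebraicGeometry.Morphisms.ClosedImmersion
import Mathlib.AlgebraicGeometry.IdealSheaf.Functorial
import Mathlib.AlgebraicGeometry.PullbackCarrier

/-!
# Lifting points along immersions

A morphism which lands set-theoretically in a subscheme, and which factors through the subscheme
after composition with a schematically dominant morphism, factors through the subscheme.
-/

set_option autoImplicit false

universe u

open CategoryTheory Limits AlgebraicGeometry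

namespace Groth.Agent.Redsub.H673.ImmLift

lemma ker_SpecMap {A B : Type u} [CommRing A] [CommRing B] (f : A →+* B)
    (hf : Function.Injective f) : (Spec.map (CommRingCat.ofHom f)).ker = ⊥ := by
  refine Scheme.IdealSheafData.ext_of_isAffine ?_
  rw [Scheme.Hom.ker_apply, Scheme.IdealSheafData.ideal_bot, Pi.bot_apply,
    ← RingHom.injective_iff_ker_eq_bot]
  have h1 : (Spec.map (CommRingCat.ofHom f)).appTop = (Scheme.ΓSpecIso (.of A)).hom ≫
      CommRingCat.ofHom f ≫ (Scheme.ΓSpecIso (.of B)).inv := by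
    rw [Scheme.ΓSpecIso_inv_naturality, Iso.hom_inv_id_assoc]
  change Function.Injective (Spec.map (CommRingCat.ofHom f)).appTop.hom
  rw [h1]
  intro x y hxy
  have h2 : Function.Injective (Scheme.ΓSpecIso (.of B)).inv.hom :=
    ((ConcreteCategory.isIso_iff_bijective (Scheme.ΓSpecIso (.of B)).inv).mp inferInstance).1
  have h3 : Function.Injective (Scheme.ΓSpecIso (.of A)).hom.hom :=
    ((ConcreteCategory.isIso_iff_bijective (Scheme.ΓSpecIso (.of A)).hom).mp inferInstance).1
  exact h3 (hf (h2 hxy))

/-- Lifting along an immersion. -/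
theorem exists_lift {X Y W W' : Scheme.{u}} (i : X ⟶ Y) [IsImmersion i] (y : W ⟶ Y)
    (f : W' ⟶ W) (hf : f.ker = ⊥) (z : W' ⟶ X) (hz : z ≫ i = f ≫ y)
    (hr : Set.range y ⊆ Set.range i) : ∃ w : W ⟶ X, w ≫ i = y := by
  have h1 : Set.range y ⊆ Set.range i.coborderRange.ι := by
    rw [Scheme.Opens.range_ι]
    exact hr.trans subset_coborder
  let y' : W ⟶ i.coborderRange := IsOpenImmersion.lift i.coborderRange.ι y h1
  have hy' : y' ≫ i.coborderRange.ι = y := IsOpenImmersion.lift_fac _ _ _
  have hz' : z ≫ i.liftCoborder = f ≫ y' := by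
    rw [← cancel_mono i.coborderRange.ι, Category.assoc, Category.assoc, hy',
      Scheme.Hom.liftCoborder_ι, hz]
  have h2 : i.liftCoborder.ker ≤ y'.ker := by
    have h3 : (f ≫ y').ker = y'.ker := by
      rw [Scheme.Hom.ker_comp, hf, Scheme.IdealSheafData.map_bot]
    rw [← h3, ← hz']
    exact Scheme.Hom.le_ker_comp _ _
  refine ⟨IsClosedImmersion.lift i.liftCoborder y' h2, ?_⟩
  calc _ = IsClosedImmersion.lift i.liftCoborder y' h2 ≫ i.liftCoborder ≫ i.coborderRange.ι := by
        rw [Scheme.Hom.liftCoborder_ι]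
    _ = y := by rw [← Category.assoc, IsClosedImmersion.lift_fac, hy']

/-- Lifting along an immersion, over a base. -/
theorem exists_lift_over {S : Scheme.{u}} {X Y W W' : Over S} (i : X ⟶ Y) [IsImmersion i.left]
    (y : W ⟶ Y) (f : W' ⟶ W) (hf : f.left.ker = ⊥) (z : W' ⟶ X) (hz : z ≫ i = f ≫ y)
    (hr : Set.range y.left ⊆ Set.range i.left) : ∃ w : W ⟶ X, w ≫ i = y := by
  obtain ⟨w, hw⟩ := exists_lift i.left y.left f.left hf z.left
    (by rw [← Over.comp_left, hz, Over.comp_left]) hr
  refine ⟨Over.homMk w ?_, ?_⟩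
  · rw [← Over.w i, ← Category.assoc, hw, Over.w]
  · ext1
    exact hw

end Groth.Agent.Redsub.H673.ImmLift
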