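import Groth.Agent.Sga3B.Parab.RadExist147

/-!
# Unipotent radicals which are stable under base change can be constructed étale locally

`StabRad u`: `u : U ⟶ H` is a unipotent radical of the `S`-group `H` (in the sense of `Def_Par`) and stays one
after all étale base changes.

* `exists_rad_of_local`: if `H` has such a radical étale locally on `S` then `H` has a unipotent radical, which
  induces the given ones.
* `mem_iff_of_rad`: hence every unipotent radical of `H` induces the given ones.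
-/

set_option autoImplicit false
set_option linter.unusedSectionVars false

universe u

open CategoryTheory MonoidalCategory CartesianMonoidalCategory MonObj GrpObj AlgebraicGeometry
open Groth.Agent.Sga3B Groth.Agent.Sga3B.Parab
open GeomBC147 GeomFib147 RedCover147 EtSub ConjPt RadExist147

namespace Groth.Agent.Redsub.H673.RadDesc

section Def

variable {S : Scheme.{u}} {U H H' : Over S} [GrpObj U] [GrpObj H] [GrpObj H']

lemma IsUnipNormal.comp_iso {u : U ⟶ H} (h : IsUnipNormal u) (e : Grp.mk H ≅ Grp.mk H') :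
    IsUnipNormal (u ≫ e.hom.hom.hom) where
  closed := by
    have h1 := h.closed
    have h2 : IsIso (isoOf e).hom.left := (Over.forget _).map_isIso (isoOf e).hom
    rw [Over.comp_left]
    exact MorphismProperty.comp_mem _ _ _ h1 (inferInstanceAs (IsClosedImmersion (isoOf e).hom.left))
  normal := isNormalHom_of_iso (Iso.refl _) e (by exact Category.id_comp _) h.normal
  smooth := h.smooth
  qc := h.qc
  fib := h.fib

/-- A unipotent radical which stays one after étale base change. -/
structure StabRad (u : U ⟶ H) : Prop where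
  mon : IsMonHom u
  nrm : IsUnipNormal u
  max₀ : ∀ (W : Over S) [GrpObj W] (w : W ⟶ H) [IsMonHom w], IsUnipNormal w →
    ∃ a : W ⟶ U, a ≫ u = w
  max : ∀ {S' : Scheme.{u}} (f : S' ⟶ S) [Etale f] (W : Over S') [GrpObj W]
    (w : W ⟶ Red.bc f H) [IsMonHom w], IsUnipNormal w →
      ∃ a : W ⟶ Red.bc f U, a ≫ (Over.pullback f).map u = w

end Def

section Cmp

variable {S : Scheme.{u}} {H : Over S} [GrpObj H]

lemma mem_bc_iff {S' : Scheme.{u}} (q : S' ⟶ S) {U : Over S} (u : U ⟶ H) {Z : Over S'}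
    (a : (Over.map q).obj Z ⟶ H) :
    Mem u a ↔ Mem ((Over.pullback q).map u) (BcPts.bcEquiv q Z H a) := by
  constructor
  · rintro ⟨x, rfl⟩
    exact ⟨BcPts.bcEquiv q Z U x, (BcPts.bcEquiv_comp q x u).symm⟩
  · rintro ⟨x, hx⟩
    refine ⟨(BcPts.bcEquiv q Z U).symm x, ?_⟩
    rw [← BcPts.bcEquiv_symm_comp, hx, Equiv.symm_apply_apply]

/-- Comparison of two étale local radicals. -/
theorem mem_cmp {S₁ S₂ D : Scheme.{u}} {f : S₁ ⟶ S} {t : S₂ ⟶ S} {q : D ⟶ S₁} {r : D ⟶ S₂}
    (sq : q ≫ f = r ≫ t) [Etale q] [Etale r]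
    {U₁ : Over S₁} {U₂ : Over S₂} [GrpObj U₁] [GrpObj U₂] {u₁ : U₁ ⟶ Red.bc f H}
    {u₂ : U₂ ⟶ Red.bc t H} (h₁ : StabRad u₁) (h₂ : StabRad u₂)
    {Z : Over D} (a : (Over.map q).obj Z ⟶ Red.bc f H) (b : (Over.map r).obj Z ⟶ Red.bc t H)
    (hab : a.left ≫ Limits.pullback.fst H.hom f = b.left ≫ Limits.pullback.fst H.hom t)
    (ha : Mem u₁ a) : Mem u₂ b := by
  have hm₁ := h₁.mon
  have hq := Desc.LQF.of_etale q
  have h1 : Mem ((Over.pullback q).map u₁) (BcPts.bcEquiv q Z _ a) := (mem_bc_iff q u₁ a).1 ha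
  obtain ⟨φ, hφ⟩ := h₂.max r (Red.bc q U₁)
    ((Over.pullback q).map u₁ ≫ (sqIso sq H).hom.hom.hom) (IsUnipNormal.comp_iso (h₁.nrm.bc q) _)
  obtain ⟨x, hx⟩ := h1
  rw [mem_bc_iff r]
  refine ⟨x ≫ φ, ?_⟩
  rw [Category.assoc, hφ, ← Category.assoc, hx]
  apply DynIso147.hom_ext_bc
  have hw : ∀ x : Z ⟶ Red.bc r (Red.bc t H),
      (x.left ≫ Limits.pullback.fst (Red.bc t H).hom r) ≫ Limits.pullback.snd H.hom t =
        Z.hom ≫ r := by
    intro x
    have e1 : Limits.pullback.fst (Red.bc t H).hom r ≫ Limits.pullback.snd H.hom t =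
      (Red.bc r (Red.bc t H)).hom ≫ r := Limits.pullback.condition
    rw [Category.assoc, e1, ← Category.assoc, Over.w]
  have hfst : ∀ {S' S'' : Scheme.{u}} (q : S' ⟶ S'') (G : Over S'') (Z : Over S')
      (a : (Over.map q).obj Z ⟶ G),
      (BcPts.bcEquiv q Z G a).left ≫ Limits.pullback.fst G.hom q = a.left := by
    intro S' S'' q G Z a
    have e1 := (EtHom.isPullback_map q a).w
    have e2 : BcPts.bcEquiv q Z G a = (Over.mapPullbackAdj q).unit.app Z ≫ (Over.pullback q).map a := by
      rw [BcPts.bcEquiv, Adjunction.homEquiv_unit]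
    have e3 : ((Over.mapPullbackAdj q).unit.app Z).left ≫
        Limits.pullback.fst ((Over.map q).obj Z).hom q = 𝟙 _ := by
      rw [Over.mapPullbackAdj_unit_app]
      exact Limits.pullback.lift_fst _ _ _
    have e4 : ((Over.pullback q).map a).left ≫ Limits.pullback.fst G.hom q =
        Limits.pullback.fst ((Over.map q).obj Z).hom q ≫ a.left := e1.symm
    rw [e2, Over.comp_left, Category.assoc, e4, ← Category.assoc, e3]
    exact Category.id_comp _
  apply Limits.pullback.hom_ext
  · have e2 := DynIso147.sqIso_left sq H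
    rw [Over.comp_left, Category.assoc, Category.assoc, e2, ← Category.assoc, hfst, hab, hfst]
  · exact (hw _).trans (hw _).symm

/-- The condition defining the radical. -/
def RC (H : Over S) [GrpObj H] (X : Over S) (g : X ⟶ H) : Prop :=
  ∀ (a : (S' : Scheme.{u}) × (f : S' ⟶ S) × (U : Over S') × (_ : GrpObj U) × (U ⟶ Red.bc f H)),
    ∀ (_ : Etale a.2.1 ∧ @StabRad _ _ _ a.2.2.2.1 _ a.2.2.2.2),
    Mem a.2.2.2.2 ((Over.pullback a.2.1).map g)

lemma mono_of_closed {A B : Over S} {a : A ⟶ B} (h : IsClosedImmersion a.left) : Mono a := by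
  have : Mono ((Over.forget S).map a) := inferInstanceAs (Mono a.left)
  exact (Over.forget S).mono_of_mono_map this

theorem isLocalPt_rC : IsLocalPt (RC H) := by
  refine IsLocalPt.forall fun a => IsLocalPt.forall fun h => ?_
  obtain ⟨S', f, U, _, u⟩ := a
  obtain ⟨h1, h2⟩ := h
  have h3 := h2.nrm.closed
  have h4 : Mono u := mono_of_closed h3
  exact IsLocalPt.bc f (isLocalPt_mem u)

theorem rC_iff_mem {S' : Scheme.{u}} (f : S' ⟶ S) (hf : Etale f) {U : Over S'} [GrpObj U]
    (v : U ⟶ Red.bc f H) (hv : StabRad v) (X : Over S') (g : X ⟶ Red.bc f H) :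
    Mem v g ↔ RC H ((Over.map f).obj X) ((BcPts.bcEquiv f X H).symm g) := by
  constructor
  · intro hg a ha
    obtain ⟨S₂, t, U₂, _, u₂⟩ := a
    obtain ⟨ht, h'⟩ := ha
    change Mem u₂ ((Over.pullback t).map _)
    have ht' : Etale t := ht
    let q : Limits.pullback f t ⟶ S' := Limits.pullback.fst f t
    let r : Limits.pullback f t ⟶ S₂ := Limits.pullback.snd f t
    have hq : Etale q := inferInstanceAs (Etale (Limits.pullback.fst f t))
    have hr : Etale r := inferInstanceAs (Etale (Limits.pullback.snd f t))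
    have sq : q ≫ f = r ≫ t := Limits.pullback.condition
    let X' : Over S := (Over.map f).obj X
    let g' : X' ⟶ H := (BcPts.bcEquiv f X H).symm g
    let Y : Over S₂ := Red.bc t X'
    let c : Y.left ⟶ Limits.pullback f t :=
      Limits.pullback.lift (Limits.pullback.fst X'.hom t ≫ X.hom) (Limits.pullback.snd X'.hom t) (by
        rw [Category.assoc]
        exact Limits.pullback.condition)
    let Z : Over (Limits.pullback f t) := Over.mk c
    let iY : Y ⟶ (Over.map r).obj Z := Over.homMk (𝟙 _) (by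
      change 𝟙 _ ≫ c ≫ r = _
      rw [Category.id_comp]
      exact Limits.pullback.lift_snd _ _ _)
    let jY : (Over.map r).obj Z ⟶ Y := Over.homMk (𝟙 _) (by
      change 𝟙 _ ≫ _ = c ≫ r
      rw [Category.id_comp]
      exact (Limits.pullback.lift_snd _ _ _).symm)
    let y : (Over.map q).obj Z ⟶ X := Over.homMk (Limits.pullback.fst X'.hom t) (by
      exact (Limits.pullback.lift_fst _ _ _).symm)
    have key := mem_cmp sq hv h' (Z := Z) (y ≫ g)
      (jY ≫ (Over.pullback t).map g') ?_ (hg.comp y)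
    · have h1 := key.comp iY
      have h2 : iY ≫ jY = 𝟙 _ := by
        ext1
        exact Category.id_comp _
      rwa [← Category.assoc, h2, Category.id_comp] at h1
    · have e2 := (EtHom.isPullback_map t g').w
      have e3 : g'.left = g.left ≫ Limits.pullback.fst H.hom f := by
        simp [g', BcPts.bcEquiv, Adjunction.homEquiv_counit]
      have e4 : ((Over.pullback t).map g').left ≫ Limits.pullback.fst H.hom t =
        Limits.pullback.fst X'.hom t ≫ g'.left := e2.symm
      change (Limits.pullback.fst X'.hom t ≫ g.left) ≫ _ =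
        (𝟙 _ ≫ ((Over.pullback t).map g').left) ≫ _
      rw [Category.id_comp, e4, e3, Category.assoc]
  · intro h0
    have h1 := h0 ⟨S', f, U, inferInstance, v⟩ ⟨hf, hv⟩
    change Mem v ((Over.pullback f).map _) at h1
    have h2 := h1.comp ((Over.mapPullbackAdj f).unit.app X)
    have h4 : (Over.mapPullbackAdj f).unit.app X ≫
        (Over.pullback f).map ((BcPts.bcEquiv f X H).symm g) = g := by
      have h5 : (Over.mapPullbackAdj f).unit.app X ≫
          (Over.pullback f).map ((BcPts.bcEquiv f X H).symm g) = BcPts.bcEquiv f X H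
            ((BcPts.bcEquiv f X H).symm g) := by
        rw [BcPts.bcEquiv, Adjunction.homEquiv_unit]
      rw [h5, Equiv.apply_symm_apply]
    rwa [h4] at h2

/-- The unipotent radical constructed from étale local ones. -/
theorem exists_rad_of_local (hloc : ∀ s : S, ∃ (S' : Scheme.{u}) (f : S' ⟶ S) (U : Over S')
    (_ : GrpObj U) (v : U ⟶ Red.bc f H), Etale f ∧ s ∈ Set.range f ∧ StabRad v) :
    ∃ (V : Over S) (_ : GrpObj V) (v : V ⟶ H), Par.IsUnipotentRadical v ∧
      ∀ (S' : Scheme.{u}) (f : S' ⟶ S) (_ : Etale f) (U : Over S') (_ : GrpObj U)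
        (u : U ⟶ Red.bc f H), StabRad u → ∀ (X : Over S') (g : X ⟶ Red.bc f H),
          Mem u g ↔ Mem ((Over.pullback f).map v) g := by
  have hex : ∃ (V : Over S) (_ : GrpObj V) (v : V ⟶ H), IsMonHom v ∧ IsClosedImmersion v.left ∧
      ∀ (X : Over S) (g : X ⟶ H), (∃ x : X ⟶ V, x ≫ v = g) ↔ RC H X g := by
    refine exists_closed_subgroup isLocalPt_rC ?_ ?_ ?_ ?_
    · intro X a ha
      obtain ⟨S', f, U, _, u⟩ := a
      have hu : StabRad u := ha.2
      have := hu.mon
      refine ⟨(1 : _ ⟶ U), ?_⟩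
      change 1 ≫ u = (Over.pullback f).map 1
      rw [MonObj.one_comp, Functor.map_one]
    · intro X x y hx hy a ha
      have hx1 := hx a ha
      have hy1 := hy a ha
      obtain ⟨S', f, U, _, u⟩ := a
      have hu : StabRad u := ha.2
      have := hu.mon
      obtain ⟨x', hx'⟩ := hx1
      obtain ⟨y', hy'⟩ := hy1
      refine ⟨(x' * y' : _ ⟶ U), ?_⟩
      change (x' * y') ≫ u = (Over.pullback f).map (x * y)
      have hx'' : x' ≫ u = (Over.pullback f).map x := hx'
      have hy'' : y' ≫ u = (Over.pullback f).map y := hy'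
      rw [MonObj.mul_comp, hx'', hy'', Functor.map_mul]
    · intro X x hx a ha
      have hx1 := hx a ha
      obtain ⟨S', f, U, _, u⟩ := a
      have hu : StabRad u := ha.2
      have := hu.mon
      obtain ⟨x', hx'⟩ := hx1
      have hx'' : x' ≫ u = (Over.pullback f).map x := hx'
      refine ⟨(x'⁻¹ : _ ⟶ U), ?_⟩
      change x'⁻¹ ≫ u = (Over.pullback f).map x⁻¹
      rw [GrpObj.inv_comp, hx'', Functor.map_inv']
    · intro s
      obtain ⟨S', f, U, _, v, hf, hs, hv⟩ := hloc s
      exact ⟨S', f, inferInstance, inferInstance, hs, U, v, hv.nrm.closed,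
        rC_iff_mem f hf v hv⟩
  obtain ⟨V, _, v, hv, hvc, hV⟩ := hex
  have hvm : Mono v := mono_of_closed hvc
  have key : ∀ (S' : Scheme.{u}) (f : S' ⟶ S) (_ : Etale f) (U : Over S') (_ : GrpObj U)
        (u : U ⟶ Red.bc f H), StabRad u → ∀ (X : Over S') (g : X ⟶ Red.bc f H),
          Mem u g ↔ Mem ((Over.pullback f).map v) g := by
    intro S' f hf U _ u hu X g
    rw [rC_iff_mem f hf u hu, ← hV]
    constructor
    · rintro ⟨x, hx⟩
      refine ⟨BcPts.bcEquiv f X V x, ?_⟩
      rw [← BcPts.bcEquiv_comp, hx, Equiv.apply_symm_apply]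
    · rintro ⟨x, rfl⟩
      exact ⟨(BcPts.bcEquiv f X V).symm x, (BcPts.bcEquiv_symm_comp f x v).symm⟩
  -- the base change of `v` is isomorphic to the local radical
  have hiso : ∀ (S' : Scheme.{u}) (f : S' ⟶ S) (_ : Etale f) (U : Over S') (_ : GrpObj U)
      (u : U ⟶ Red.bc f H), StabRad u → IsUnipNormal ((Over.pullback f).map v) := by
    intro S' f hf U _ u hu
    have hum : Mono u := mono_of_closed hu.nrm.closed
    have hvfm : Mono ((Over.pullback f).map v) := inferInstance
    have := hu.mon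
    obtain ⟨a, ha⟩ := (key S' f hf U _ u hu _ u).1 ⟨𝟙 _, Category.id_comp _⟩
    obtain ⟨b, hb⟩ := (key S' f hf U _ u hu _ ((Over.pullback f).map v)).2 ⟨𝟙 _, Category.id_comp _⟩
    let e : U ≅ Red.bc f V := ⟨a, b, by rw [← cancel_mono u, Category.assoc, hb, ha, Category.id_comp],
      by rw [← cancel_mono ((Over.pullback f).map v), Category.assoc, ha, hb, Category.id_comp]⟩
    have hem : IsMonHom e.hom :=
      { one_hom := by
          rw [← cancel_mono ((Over.pullback f).map v), Category.assoc]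
          change η ≫ a ≫ _ = _
          rw [ha, IsMonHom.one_hom, IsMonHom.one_hom]
        mul_hom := by
          rw [← cancel_mono ((Over.pullback f).map v), Category.assoc, Category.assoc]
          change μ ≫ a ≫ _ = (a ⊗ₘ a) ≫ _
          rw [ha, IsMonHom.mul_hom, IsMonHom.mul_hom, ← Category.assoc,
            MonoidalCategory.tensorHom_comp_tensorHom, ha] }
    let eg : Grp.mk U ≅ Grp.mk (Red.bc f V) := Grp.mkIso e
    have hw : eg.hom.hom.hom ≫ (Over.pullback f).map v = u ≫ (Iso.refl (Grp.mk (Red.bc f H))).hom.hom.hom := by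
      exact ha.trans (Category.comp_id _).symm
    refine ⟨?_, isNormalHom_of_iso eg (Iso.refl _) hw hu.nrm.normal, ?_, ?_, ?_⟩
    · have h1 : IsClosedImmersion (b.left ≫ u.left) := by
        have h2 := hu.nrm.closed
        have h3 : IsIso b.left := inferInstanceAs (IsIso ((Over.forget _).mapIso e).inv)
        exact MorphismProperty.comp_mem _ _ _ (inferInstance : IsClosedImmersion b.left) h2
      rwa [← Over.comp_left, hb] at h1
    · exact prop_hom_of_iso @Smooth e hu.nrm.smooth
    · exact prop_hom_of_iso @QuasiCompact e hu.nrm.qc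
    · intro s'
      have h1 := hu.nrm.fib s'
      exact ⟨connectedSpace_of_iso ((Over.forget _).mapIso ((Over.pullback (Red.geomPt s')).mapIso e)) h1.1,
        hasNoSubtorus_of_iso (BcIso.bcMapIso (Red.geomPt s') eg) h1.2⟩
  have hn : AlgGrp.IsNormalHom v := by
    intro T g n
    suffices h0 : RC H T (g * (n ≫ v) * g⁻¹) by
      obtain ⟨x, hx⟩ := (hV _ _).2 h0
      exact ⟨x, hx.symm⟩
    intro a ha
    obtain ⟨S', f, U, _, u⟩ := a
    obtain ⟨h1, h2⟩ := ha
    obtain ⟨n', hn'⟩ := (hiso _ f h1 _ _ u h2).normal _ ((Over.pullback f).map g)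
      ((Over.pullback f).map n)
    refine (key _ f h1 _ _ u h2 _ _).2 ⟨n', ?_⟩
    rw [← hn', ← Functor.map_comp, ← Functor.map_inv', ← Functor.map_mul, ← Functor.map_mul]
  obtain ⟨J, S', f, he, hcov, hQ⟩ := exists_isEtCov (S := S) (Q := fun S' f =>
    ∃ (U : Over S') (_ : GrpObj U) (v : U ⟶ Red.bc f H), StabRad v) (fun s => by
      obtain ⟨S', f, U, _, v, hf, hs, hv⟩ := hloc s
      exact ⟨S', f, hf, hs, U, _, v, hv⟩)
  have hN : IsUnipNormal v := by
    refine isUnipNormal_of_cover hn hcov fun i => ?_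
    obtain ⟨U, _, u, hu⟩ := hQ i
    exact hiso _ (f i) (he i) U _ u hu
  refine ⟨V, inferInstance, v, ⟨hv, hN.closed, hN.normal, hN.smooth, hN.qc, hN.fib, ?_⟩, key⟩
  intro U' _ u' _ h1 h2 h3 h4 h5
  refine (hV _ _).2 ?_
  intro a ha
  obtain ⟨S', f, U, _, u⟩ := a
  obtain ⟨b1, b2⟩ := ha
  have hu' : IsUnipNormal u' := ⟨h1, h2, h3, h4, h5⟩
  have hf : Etale f := b1
  have := Desc.LQF.of_etale f
  obtain ⟨x, hx⟩ := b2.max₀ (Red.bc f U') ((Over.pullback f).map u') (hu'.bc f)
  exact ⟨x, hx⟩

/-- A unipotent radical of `H` induces the étale local ones. -/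
theorem mem_iff_of_rad (hloc : ∀ s : S, ∃ (S' : Scheme.{u}) (f : S' ⟶ S) (U : Over S')
    (_ : GrpObj U) (v : U ⟶ Red.bc f H), Etale f ∧ s ∈ Set.range f ∧ StabRad v)
    {V : Over S} [GrpObj V] {v : V ⟶ H} (hv : Par.IsUnipotentRadical v)
    {S' : Scheme.{u}} (f : S' ⟶ S) (hf : Etale f) {U : Over S'} [GrpObj U]
    (u : U ⟶ Red.bc f H) (hu : StabRad u) (X : Over S') (g : X ⟶ Red.bc f H) :
    Mem u g ↔ Mem ((Over.pullback f).map v) g := by
  obtain ⟨W, _, w, hw, key⟩ := exists_rad_of_local hloc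
  have hvm := hv.1
  have hwm := hw.1
  obtain ⟨a, ha⟩ := exists_fac hw (isUnipNormal_of_isUnipotentRadical hv)
  obtain ⟨b, hb⟩ := exists_fac hv (isUnipNormal_of_isUnipotentRadical hw)
  rw [key S' f hf U _ u hu X g]
  constructor
  · rintro ⟨x, rfl⟩
    exact ⟨x ≫ (Over.pullback f).map b, by rw [Category.assoc, ← Functor.map_comp, hb]⟩
  · rintro ⟨x, rfl⟩
    exact ⟨x ≫ (Over.pullback f).map a, by rw [Category.assoc, ← Functor.map_comp, ha]⟩

end Cmp

end Groth.Agent.Redsub.H673.RadDesc
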