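import Groth.Agent.Redsub.H673.Good
import Groth.Agent.Redsub.H673.RadDesc
import Groth.Agent.Sga3B.Parab.Kill
import Groth.Agent.Sga3B.Parab.K3b143
import Groth.Agent.Flat2H.FSSmoothHom

/-!
# The unipotent part of a solvable subgroup of type (R) containing a maximal torus

`H ⊆ P_G(λ)`, `T = Z_G(λ) ⊆ H`: then `H = T ⋉ V`, `V = H ∩ U_G(λ)`, and `V` is the unipotent radical of `H`.
-/

set_option autoImplicit false
set_option linter.unusedSectionVars false

universe u

open CategoryTheory MonoidalCategory CartesianMonoidalCategory MonObj GrpObj AlgebraicGeometry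
open Groth.Agent.Sga3B Groth.Agent.Sga3B.Parab
open Groth.Agent.Sga3B.Parab.Dyn998 Groth.Agent.Sga3B.Parab.DynExist998
open Groth.Agent.Sga3B.Parab.DynBc998 Groth.Agent.Sga3B.Parab.DynLevi998
open ConjPt RadExist147

namespace Groth.Agent.Redsub.H673

section Retract

open Extract DynSmooth

variable {S : Scheme.{u}}

/-- A retract of a smooth `S`-scheme is smooth if it is locally of finite presentation. -/
theorem smooth_of_retract {N H : Over S} (a : N ⟶ H) (b : H ⟶ N) (hab : a ≫ b = 𝟙 N)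
    (hN : LocallyOfFinitePresentation N.hom) (hH : Smooth H.hom) : Smooth N.hom := by
  rw [Flat2H.FSSmoothHom.smooth_iff]
  refine ⟨hN, ?_⟩
  intro A _ I hI α β w
  let α' : aff (A ⧸ I) (redc β I) ⟶ N := Over.homMk α w.symm
  obtain ⟨h, hh⟩ := DynSmooth.exists_lift hH (Ideal.Quotient.mk I) Ideal.Quotient.mk_surjective
    (ker_mk_sq hI) (red β I) rfl (α' ≫ a)
  refine ⟨(h ≫ b).left, ?_, Over.w (h ≫ b)⟩
  have h1 : red β I ≫ (h ≫ b) = α' := by
    rw [← Category.assoc, hh, Category.assoc, hab, Category.comp_id]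
  exact congrArg (fun f => f.left) h1

/-- A morphism between schemes locally of finite type over `S`, with source locally of finite presentation. -/
lemma lfp_of_lfp {X Y : Over S} (f : X ⟶ Y) [LocallyOfFinitePresentation X.hom]
    [LocallyOfFiniteType Y.hom] : LocallyOfFinitePresentation f.left := by
  have h1 : LocallyOfFinitePresentation (f.left ≫ Y.hom) := by
    rw [Over.w]
    infer_instance
  exact Ega43.FPOfComp.locallyOfFinitePresentation_of_comp f.left Y.hom

end Retract

variable {S : Scheme.{u}} {G H T : Over S} [GrpObj G] [GrpObj H] [GrpObj T] {i : H ⟶ G}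
    {t : T ⟶ H} {lam : Red.Gm S ⟶ T}

/-- The projection `H ⟶ T`. -/
theorem exists_proj (h : Hyp i t) (hg : Good i t lam) : ∃ π : H ⟶ T, IsMonHom π ∧ t ≫ π = 𝟙 T ∧
    (∀ (X : Over S) (g : X ⟶ H), PtU (lam ≫ t ≫ i) (((g ≫ π ≫ t)⁻¹ * g) ≫ i)) ∧
    ∀ (X : Over S) (g : X ⟶ H), PtU (lam ≫ t ≫ i) (g ≫ i) → g ≫ π = 1 := by
  have hi := h.mon
  have ht := h.tmon
  have hl := hg.lmon
  have hGa : IsAffineHom G.hom := h.red.1
  obtain ⟨P, _, p, hp, -⟩ := exists_isDynP (lam ≫ t ≫ i)
  have hpm := hp.isMonHom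
  have hpmono := hp.mono
  obtain ⟨j, hj⟩ := (hp.iff_ptP _ _).2 hg.inP
  obtain ⟨z, hz⟩ := exists_zP hp hg.cent
  obtain ⟨U₀, _, u₀, hu₀, -⟩ := exists_isDynU (lam ≫ t ≫ i)
  obtain ⟨u, rfl⟩ := exists_uP hp hu₀
  have hz' : IsDynZ (lam ≫ t ≫ i) (z ≫ p) := by
    rw [hz]
    exact hg.cent
  have hiso := isIso_levi hp hz' hu₀
  have hn := isNormalHom_uP hp hu₀
  have hzm : IsMonHom z := isMonHom_zP hp hz'
  have hum : IsMonHom u := isMonHom_uP hp hu₀
  have hjm : IsMonHom j := by
    have : IsMonHom (j ≫ p) := by rw [hj]; infer_instance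
    exact isMonHom_of_comp_mono (p := p)
  have hprm := Semi.isMonHom_pr z u hn
  have htj : t ≫ j = z := by rw [← cancel_mono p, Category.assoc, hj, hz]
  refine ⟨j ≫ Semi.pr z u, inferInstance, ?_, ?_, ?_⟩
  · rw [← Category.assoc, htj, Semi.l_pr]
  · intro X g
    have h1 := Semi.pr_mul_qr z u (g ≫ j)
    have h2 : ((g ≫ (j ≫ Semi.pr z u) ≫ t)⁻¹ * g) ≫ i = ((g ≫ j) ≫ Semi.qr z u) ≫ u ≫ p := by
      have h3 : ((g ≫ j) ≫ Semi.qr z u) ≫ u ≫ p =
          (((g ≫ j) ≫ Semi.pr z u ≫ z)⁻¹ * (g ≫ j)) ≫ p := by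
        nth_rw 3 [← h1]
        rw [inv_mul_cancel_left]
        simp only [Category.assoc]
      rw [h3, MonObj.mul_comp, MonObj.mul_comp, GrpObj.inv_comp, GrpObj.inv_comp]
      simp only [Category.assoc, hj, hz]
    rw [h2]
    exact (hu₀.iff_ptU _ _).1 ⟨_, rfl⟩
  · intro X g hgU
    obtain ⟨x, hx⟩ := (hu₀.iff_ptU _ _).2 hgU
    have h1 : g ≫ j = x ≫ u := by
      rw [← cancel_mono p, Category.assoc, hj, Category.assoc, hx]
    rw [← Category.assoc, h1, Category.assoc, Semi.u_pr, MonObj.comp_one]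

/-- `v : V ⟶ H` is the subgroup `H ∩ U_G(λ)`. -/
structure IsV {V : Over S} [GrpObj V] (i : H ⟶ G) (t : T ⟶ H) (lam : Red.Gm S ⟶ T) (v : V ⟶ H) :
    Prop where
  mon : IsMonHom v
  cl : IsClosedImmersion v.left
  iff : ∀ (X : Over S) (g : X ⟶ H), Mem v g ↔ PtU (lam ≫ t ≫ i) (g ≫ i)

theorem exists_isV (h : Hyp i t) (hg : Good i t lam) :
    ∃ (V : Over S) (_ : GrpObj V) (v : V ⟶ H), IsV i t lam v := by
  have hi := h.mon
  have ht := h.tmon
  have hl := hg.lmon
  have hGa : IsAffineHom G.hom := h.red.1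
  have hii := h.imm
  have him : Mono i := by
    have : Mono ((Over.forget S).map i) := inferInstanceAs (Mono i.left)
    exact (Over.forget S).mono_of_mono_map this
  obtain ⟨U₀, _, u₀, hu₀, hcl⟩ := exists_isDynU (lam ≫ t ≫ i)
  have hum := hu₀.isMonHom
  have humono := hu₀.mono
  obtain ⟨V, _, v, b, hv, hb, hsq⟩ := Inter.exists_inter i u₀
  refine ⟨V, inferInstance, v, hv, ?_, ?_⟩
  · exact MorphismProperty.of_isPullback (P := @IsClosedImmersion) (Kill.isPullback_left hsq).flip hcl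
  · intro X g
    rw [← hu₀.iff_ptU]
    constructor
    · rintro ⟨x, rfl⟩
      exact ⟨x ≫ b, by rw [Category.assoc, ← hsq.w, Category.assoc]⟩
    · rintro ⟨x, hx⟩
      exact ⟨hsq.lift g x hx.symm, hsq.lift_fst _ _ _⟩

namespace IsV

variable {V : Over S} [GrpObj V] {v : V ⟶ H}

theorem bc (hv : IsV i t lam v) {S' : Scheme.{u}} (f : S' ⟶ S) :
    IsV ((Over.pullback f).map i) ((Over.pullback f).map t) (bcLam lam f)
      ((Over.pullback f).map v) where
  mon := by
    have := hv.mon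
    infer_instance
  cl := Inter.isClosedImmersion_bc f v hv.cl
  iff X g := by
    rw [← Good.bcLam_comp₂, ptU_bc_iff]
    have h1 : (DSPts.bcEquiv f X G).symm (g ≫ (Over.pullback f).map i) =
        (DSPts.bcEquiv f X H).symm g ≫ i := BcPts.bcEquiv_symm_comp f g i
    rw [h1, ← hv.iff]
    exact exists_bc_iff f v g

theorem mono (hv : IsV i t lam v) : Mono v := RadDesc.mono_of_closed hv.cl

/-- The conditions on the unipotent radical. -/
theorem isUnipNormal (hv : IsV i t lam v) (h : Hyp i t) (hg : Good i t lam) : IsUnipNormal v := by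
  have hi := h.mon
  have ht := h.tmon
  have hl := hg.lmon
  have hGa : IsAffineHom G.hom := h.red.1
  have hGs : Smooth G.hom := h.red.2.1
  have hHs : Smooth H.hom := h.smooth
  have hHq : QuasiCompact H.hom := h.qc
  have hvm := hv.mon
  have hvcl := hv.cl
  have hvmono := hv.mono
  obtain ⟨π, hπ, htπ, h1, h2⟩ := exists_proj h hg
  -- the retraction
  obtain ⟨r, hr⟩ := (hv.iff _ _).2 (h1 H (𝟙 H))
  rw [Category.id_comp] at hr
  have hvπ : v ≫ π = 1 := h2 _ v ((hv.iff _ _).1 ⟨𝟙 _, Category.id_comp _⟩)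
  have hvr : v ≫ r = 𝟙 V := by
    rw [← cancel_mono v, Category.assoc, hr, MonObj.comp_mul, GrpObj.comp_inv, Category.comp_id,
      ← Category.assoc, hvπ, MonObj.one_comp, inv_one, _root_.one_mul, Category.id_comp]
  have hTs : Smooth T.hom := TorusAlgClosed.smooth_of_isTorus h.max.2.2.1
  -- `V` is the kernel of `π`
  have hmem : ∀ (X : Over S) (g : X ⟶ H), g ≫ π = 1 → Mem v g := by
    intro X g hgπ
    rw [hv.iff]
    have h3 := h1 X g
    rwa [← Category.assoc g π t, hgπ, MonObj.one_comp, inv_one, _root_.one_mul] at h3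
  have hcond : ∀ s : Limits.PullbackCone π η[T], s.fst ≫ π = 1 := by
    intro s
    rw [s.condition]
    have h3 : s.snd = toUnit _ := Subsingleton.elim _ _
    rw [h3]
    rfl
  have hsq : IsPullback v (toUnit V) π η[T] := by
    refine ⟨⟨by rw [hvπ]; rfl⟩, ⟨Limits.PullbackCone.IsLimit.mk _
      (fun s => (hmem _ s.fst (hcond s)).choose) ?_ ?_ ?_⟩⟩
    · intro s
      exact Exists.choose_spec (hmem _ s.fst (hcond s))
    · intro s
      exact Subsingleton.elim _ _
    · intro s m hm _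
      rw [← cancel_mono v, hm]
      exact (Exists.choose_spec (hmem _ s.fst (hcond s))).symm
  have hηfp : LocallyOfFinitePresentation (η[T] : 𝟙_ (Over S) ⟶ T).left := by
    have : LocallyOfFinitePresentation (𝟙_ (Over S)).hom :=
      inferInstanceAs (LocallyOfFinitePresentation (𝟙 S))
    exact lfp_of_lfp η[T]
  have hvfp : LocallyOfFinitePresentation v.left :=
    MorphismProperty.of_isPullback (P := @LocallyOfFinitePresentation)
      (Kill.isPullback_left hsq).flip hηfp
  have hVfp : LocallyOfFinitePresentation V.hom := by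
    rw [← Over.w v]
    infer_instance
  -- the map to `U_G(λ)`
  obtain ⟨U₀, _, u₀, hu₀, -⟩ := exists_isDynU (lam ≫ t ≫ i)
  have hu₀m := hu₀.isMonHom
  have hu₀mono := hu₀.mono
  obtain ⟨a, ha⟩ := (hu₀.iff_ptU _ _).2 ((hv.iff _ v).1 ⟨𝟙 _, Category.id_comp _⟩)
  have hii := h.imm
  have him : Mono i := by
    have : Mono ((Over.forget S).map i) := inferInstanceAs (Mono i.left)
    exact (Over.forget S).mono_of_mono_map this
  have ham : IsMonHom a := by
    have : IsMonHom (a ≫ u₀) := by rw [ha]; infer_instance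
    exact isMonHom_of_comp_mono (p := u₀)
  have hamono : Mono a := by
    have : Mono (a ≫ u₀) := by rw [ha]; infer_instance
    exact mono_of_mono a u₀
  refine ⟨hvcl, ?_, smooth_of_retract v r hvr hVfp hHs, ?_, fun s => ⟨?_, ?_⟩⟩
  · intro X g n
    obtain ⟨x, hx⟩ := hmem X (g * (n ≫ v) * g⁻¹) (by
      rw [MonObj.mul_comp, MonObj.mul_comp, Category.assoc, hvπ, MonObj.comp_one, _root_.mul_one,
        GrpObj.inv_comp, mul_inv_cancel])
    exact ⟨x, hx.symm⟩
  · rw [← Over.w v]
    infer_instance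
  · exact Retr.connectedSpace_of_retract (Red.geomPt s) v r hvr (h.conn s)
  · have h3 := hu₀.bc (Red.geomPt s)
    have h4 : IsAffineHom (Red.geomFibre s G).hom :=
      inferInstanceAs (IsAffineHom (Limits.pullback.snd G.hom (Red.geomPt s)))
    have h5 : Smooth (Red.geomFibre s G).hom :=
      inferInstanceAs (Smooth (Limits.pullback.snd G.hom (Red.geomPt s)))
    exact Inter.hasNoSubtorus_of_mono ((Over.pullback (Red.geomPt s)).map a)
      (DynGeom678.hasNoSubtorus_isDynU h3)

/-- Maximality. -/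
theorem exists_fac (hv : IsV i t lam v) (h : Hyp i t) (hg : Good i t lam) (W : Over S) [GrpObj W]
    (w : W ⟶ H) [IsMonHom w] (hw : IsUnipNormal w) : ∃ a : W ⟶ V, a ≫ v = w := by
  have hi := h.mon
  have ht := h.tmon
  have hl := hg.lmon
  have hGa : IsAffineHom G.hom := h.red.1
  have hGs : Smooth G.hom := h.red.2.1
  have hHs : Smooth H.hom := h.smooth
  have hvm := hv.mon
  have hvmono := hv.mono
  have hwcl := hw.closed
  have hwmono : Mono w := RadDesc.mono_of_closed hwcl
  have hWs : Smooth W.hom := hw.smooth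
  obtain ⟨π, hπ, htπ, h1, h2⟩ := exists_proj h hg
  have hmem : ∀ (X : Over S) (g : X ⟶ H), g ≫ π = 1 → Mem v g := by
    intro X g hgπ
    rw [hv.iff]
    have h3 := h1 X g
    rwa [← Category.assoc g π t, hgπ, MonObj.one_comp, inv_one, _root_.one_mul] at h3
  -- `π` maps `W` to `W ∩ T`
  obtain ⟨n, hn⟩ : ∃ n : W ⟶ W, n ≫ w = w ≫ π ≫ t := by
    have hii := h.imm
    have him : Mono i := by
      have : Mono ((Over.forget S).map i) := inferInstanceAs (Mono i.left)
      exact (Over.forget S).mono_of_mono_map this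
    refine AffPts998.exists_lift_of_aff w _ fun C _ c x => ?_
    obtain ⟨w₀, hw₀⟩ : ∃ w₀ : aff C c ⟶ H, w₀ = x ≫ w := ⟨_, rfl⟩
    obtain ⟨τ, hτ⟩ : ∃ τ : aff C c ⟶ H, τ = w₀ ≫ π ≫ t := ⟨_, rfl⟩
    obtain ⟨k, hk, hk0⟩ : LimOne (lam ≫ t ≫ i) ((τ⁻¹ * w₀) ≫ i) := by
      rw [hτ]
      exact Dyn998.ptU_iff.1 (h1 _ w₀)
    have hZ : OrbConst (lam ≫ t ≫ i) (τ ≫ i) := by
      have h3 := Dyn998.ptZ_iff.1 (hg.cent.ptZ.comp (w₀ ≫ π))
      rw [hτ]
      simpa only [Category.assoc] using h3
    obtain ⟨y, hy⟩ := hw.normal (gmo C c) (tPt C c ≫ lam ≫ t) (gmPr C c ≫ x)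
    have h3 : y ≫ w = orb (lam ≫ t) w₀ := by
      rw [← hy, hw₀]
      rfl
    have h4 : toLin C c ≫ ((linPr C c ≫ τ ≫ i) * k) = (y ≫ w) ≫ i := by
      rw [h3, ← Func.orb_map, MonObj.comp_mul, hk, ← Category.assoc (toLin C c),
        Dyn998.toLin_linPr]
      have h5 : w₀ ≫ i = (τ ≫ i) * ((τ⁻¹ * w₀) ≫ i) := by
        rw [← MonObj.mul_comp, mul_inv_cancel_left]
      have h6 : (lam ≫ t) ≫ i = lam ≫ t ≫ i := Category.assoc _ _ _
      rw [h5, h6, Dyn998.orb_mul, hZ]
    obtain ⟨l', hl'⟩ := RangeLim.exists_lim i (y ≫ w) _ h4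
    have h7 : toLin C c ≫ l' = y ≫ w := by
      rw [← cancel_mono i, Category.assoc, hl', h4]
    obtain ⟨y', hy'⟩ := LimLift.exists_lift w l' y h7.symm
    refine ⟨zeroSec C c ≫ y', ?_⟩
    rw [← cancel_mono i, Category.assoc (zeroSec C c) y' w, hy', Category.assoc, hl', MonObj.comp_mul, hk0,
      _root_.mul_one, ← Category.assoc (zeroSec C c), Dyn998.zeroSec_linPr, Category.id_comp]
    simp only [hτ, hw₀, Category.assoc]
  have hTs : Smooth T.hom := TorusAlgClosed.smooth_of_isTorus h.max.2.2.1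
  have hTa : IsAffineHom T.hom := TorusAlgClosed.isAffineHom_of_isTorus h.max.2.2.1
  have hTred : Red.IsReductive T := isReductive_of_isDynZ (lam ≫ t ≫ i) K3b143.dynK3 h.red _ hg.cent
  have hmt : Mono t := by
    have : Mono (t ≫ i) := hg.cent.mono
    exact mono_of_mono t i
  obtain ⟨N, instN, a, b, ha, hb, hN⟩ := Inter.exists_inter w t
  have hNl := Kill.isPullback_left hN
  have hbcl : IsClosedImmersion b.left := MorphismProperty.of_isPullback hNl hwcl
  have hma : Mono a := ⟨fun f g h => hN.hom_ext h (by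
    rw [← cancel_mono t, Category.assoc, Category.assoc, ← hN.w, ← Category.assoc, h,
      Category.assoc])⟩
  have hNaff : IsAffineHom N.hom := by
    have : b.left ≫ T.hom = N.hom := Over.w b
    rw [← this]
    infer_instance
  have htfp : LocallyOfFinitePresentation t.left := lfp_of_lfp t
  have hafp : LocallyOfFinitePresentation a.left :=
    MorphismProperty.of_isPullback (P := @LocallyOfFinitePresentation) hNl.flip htfp
  have hNfp : LocallyOfFinitePresentation N.hom := by
    rw [← Over.w a]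
    infer_instance
  let c : W ⟶ N := hN.lift n (w ≫ π) (by rw [hn, Category.assoc])
  have hca : c ≫ a = n := hN.lift_fst _ _ _
  have hcb : c ≫ b = w ≫ π := hN.lift_snd _ _ _
  have hac : a ≫ c = 𝟙 N := by
    rw [← cancel_mono a, Category.assoc, hca, Category.id_comp, ← cancel_mono w, Category.assoc, hn,
      ← Category.assoc, hN.w, Category.assoc, ← Category.assoc t, htπ, Category.id_comp]
  have hNs : Smooth N.hom := smooth_of_retract a c hac hNfp hWs
  -- normality
  have hNn : AlgGrp.IsNormalHom b := by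
    intro X g m
    obtain ⟨n', hn'⟩ := hw.normal X (g ≫ t) (m ≫ a)
    refine ⟨hN.lift n' (g * (m ≫ b) * g⁻¹) ?_, (hN.lift_snd _ _ _).symm⟩
    rw [← hn', MonObj.mul_comp, MonObj.mul_comp, GrpObj.inv_comp, Category.assoc, hN.w,
      Category.assoc]
  -- triviality on fibres
  have hNt : Red.IsTrivialGrp N := by
    refine Retr.isTrivialGrp_of_fibres N fun s => ?_
    refine ⟨AlgebraicClosure (S.residueField s), inferInstance, Red.geomPt s, ?_, ?_⟩
    · rw [Scheme.Hom.comp_apply]
      exact Scheme.fromSpecResidueField_apply _ _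
    · have h1 := (hTred.2.2 s).2.2.2 (Red.geomFibre s N) ((Over.pullback (Red.geomPt s)).map b)
      refine h1 (Inter.isClosedImmersion_bc _ b hbcl) ?_ ?_ (Inter.isNormalHom_bc _ b hNn) ?_
      · exact inferInstanceAs (Smooth (Limits.pullback.snd N.hom (Red.geomPt s)))
      · exact Retr.connectedSpace_of_retract (Red.geomPt s) a c hac (hw.fib s).1
      · exact Inter.hasNoSubtorus_of_mono ((Over.pullback (Red.geomPt s)).map a) (hw.fib s).2
  -- conclusion
  have hc1 : c = 1 := by
    have : IsIso N.hom := hNt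
    ext1
    rw [← cancel_mono N.hom, Over.w, Over.w]
  exact hmem W w (by rw [← hcb, hc1, MonObj.one_comp])

/-- `V` is the unipotent radical of `H`, stably. -/
theorem stabRad (hv : IsV i t lam v) (h : Hyp i t) (hg : Good i t lam) : RadDesc.StabRad v where
  mon := hv.mon
  nrm := hv.isUnipNormal h hg
  max₀ := fun W _ w _ hw => hv.exists_fac h hg W w hw
  max := fun f hf W _ w _ hw => (hv.bc f).exists_fac (@Hyp.bc _ _ _ _ _ _ _ _ _ h _ f hf)
    (hg.bc f) W w hw

end IsV

end Groth.Agent.Redsub.H673
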